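import Cfsg.Agent.Lib.Classical.Symplectic.Matrix
import Cfsg.Agent.Lib.Classical.Quad.StandardForms
import Cfsg.Agent.Lib.Classical.Quad.Eichler
import Cfsg.Agent.Lib.Geo.SympMaximal

/-!
# The five-dimensional orthogonal representation of `Sp₄`

Self-adjoint matrices of trace zero square to scalars; conjugation gives the map to the isometry group.
-/

set_option autoImplicit false
set_option maxHeartbeats 1000000

namespace CfsgLib.Geo.KleinSp

open Matrix
open CfsgLib.Classical CfsgLib.Classical.Quad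
open QuadraticMap (polar polarBilin)

variable {F : Type*} [Field F]

local notation "II" => (Fin 2 ⊕ Fin 2)
local notation "I5" => (Unit ⊕ (Fin 2 ⊕ Fin 2))

/-- Coordinates as a matrix. -/
def kx (x : I5 → F) : Matrix II II F :=
  fromBlocks !![x (.inl ()), x (.inr (.inl 0)); x (.inr (.inr 0)), -x (.inl ())]
    !![0, x (.inr (.inl 1)); -x (.inr (.inl 1)), 0]
    !![0, -x (.inr (.inr 1)); x (.inr (.inr 1)), 0]
    !![x (.inl ()), x (.inr (.inr 0)); x (.inr (.inl 0)), -x (.inl ())]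

/-- Coordinates of a matrix. -/
def kc (M : Matrix II II F) : I5 → F :=
  Sum.elim (fun _ => M (.inl 0) (.inl 0))
    (Sum.elim ![M (.inl 0) (.inl 1), M (.inl 0) (.inr 1)] ![M (.inl 1) (.inl 0), -M (.inr 0) (.inl 1)])

/-- Self-adjoint of trace zero. -/
def IsW (M : Matrix II II F) : Prop := Mᵀ * Matrix.J (Fin 2) F = Matrix.J (Fin 2) F * M ∧ M.trace = 0

theorem kx_add (x y : I5 → F) : kx (x + y) = kx x + kx y := by
  simp only [kx, Pi.add_apply, fromBlocks_add]
  congr 1 <;> ext i j <;> fin_cases i <;> fin_cases j <;> simp <;> ring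

theorem kx_smul (c : F) (x : I5 → F) : kx (c • x) = c • kx x := by
  simp only [kx, Pi.smul_apply, smul_eq_mul, fromBlocks_smul]
  congr 1 <;> ext i j <;> fin_cases i <;> fin_cases j <;> simp

theorem kx_sub (x y : I5 → F) : kx (x - y) = kx x - kx y := by
  rw [eq_sub_iff_add_eq, ← kx_add, sub_add_cancel]

theorem kx_neg (x : I5 → F) : kx (-x) = -kx x := by
  rw [← neg_one_smul F x, kx_smul, neg_one_smul]

theorem kc_kx (x : I5 → F) : kc (kx x) = x := by
  funext i
  rcases i with u | i | i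
  · simp [kc, kx]
  · fin_cases i <;> simp [kc, kx]
  · fin_cases i <;> simp [kc, kx]

theorem kx_injective : Function.Injective (kx (F := F)) := fun x y h => by
  rw [← kc_kx x, h, kc_kx]

theorem kc_add (M N : Matrix II II F) : kc (M + N) = kc M + kc N := by
  funext i
  rcases i with u | i | i
  · simp [kc]
  · fin_cases i <;> simp [kc]
  · fin_cases i <;> simp [kc] <;> ring

theorem kc_smul (c : F) (M : Matrix II II F) : kc (c • M) = c • kc M := by
  funext i
  rcases i with u | i | i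
  · simp [kc]
  · fin_cases i <;> simp [kc]
  · fin_cases i <;> simp [kc]

theorem isW_kx (x : I5 → F) : IsW (kx x) := by
  refine ⟨?_, ?_⟩
  · rw [kx, Matrix.J, fromBlocks_transpose, fromBlocks_multiply, fromBlocks_multiply]
    congr 1 <;> ext i j <;> fin_cases i <;> fin_cases j <;> simp
  · simp [kx, trace, Fintype.sum_sum_type, Fin.sum_univ_two]

theorem kx_kc (h2 : (2 : F) ≠ 0) {M : Matrix II II F} (h : IsW M) : kx (kc M) = M := by
  obtain ⟨hJ, ht⟩ := h
  have e := fun i j => congrFun₂ hJ i j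
  have a1 := e (.inl 0) (.inr 0)
  have a2 := e (.inl 1) (.inr 0)
  have a3 := e (.inl 0) (.inr 1)
  have a4 := e (.inl 1) (.inr 1)
  have b0 := e (.inl 0) (.inl 0)
  have b1 := e (.inl 1) (.inl 1)
  have b2 := e (.inl 0) (.inl 1)
  have c0 := e (.inr 0) (.inr 0)
  have c1 := e (.inr 1) (.inr 1)
  have c2 := e (.inr 0) (.inr 1)
  simp [Matrix.J, Matrix.mul_apply, Fintype.sum_sum_type, Fin.sum_univ_two] at a1 a2 a3 a4 b0 b1 b2 c0 c1 c2
  simp [trace, Fintype.sum_sum_type, Fin.sum_univ_two] at ht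
  have z : ∀ {t : F}, 2 * t = 0 → t = 0 := fun {t} h => (mul_eq_zero.1 h).resolve_left h2
  have hd : M (.inl 1) (.inl 1) = -M (.inl 0) (.inl 0) := by
    refine eq_neg_of_add_eq_zero_left (z ?_)
    first
      | linear_combination ht + a1 + a4
      | linear_combination ht - a1 - a4
      | linear_combination ht + a1 - a4
      | linear_combination ht - a1 + a4
  ext i j
  rcases i with i | i <;> rcases j with j | j <;> fin_cases i <;> fin_cases j <;> simp [kx, kc] <;>
    first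
      | linear_combination hd
      | linear_combination -hd
      | linear_combination a1
      | linear_combination -a1
      | linear_combination a2
      | linear_combination -a2
      | linear_combination a3
      | linear_combination -a3
      | linear_combination a4 + hd
      | linear_combination a4 - hd
      | linear_combination -a4 + hd
      | linear_combination -a4 - hd
      | linear_combination b2
      | linear_combination -b2
      | linear_combination c2
      | linear_combination -c2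
      | exact (z (by linear_combination b0)).symm
      | exact (z (by linear_combination -b0)).symm
      | exact (z (by linear_combination b1)).symm
      | exact (z (by linear_combination -b1)).symm
      | exact (z (by linear_combination c0)).symm
      | exact (z (by linear_combination -c0)).symm
      | exact (z (by linear_combination c1)).symm
      | exact (z (by linear_combination -c1)).symm

theorem kx_mul_self (x : I5 → F) : kx x * kx x = qOdd 2 F x • 1 := by
  rw [coe_qOdd, Cfsg.quadFormOdd, Fin.sum_univ_two, kx, fromBlocks_multiply, ← fromBlocks_one, fromBlocks_smul]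
  congr 1 <;> ext i j <;> fin_cases i <;> fin_cases j <;> simp [Matrix.mul_apply, Fin.sum_univ_two] <;> ring

theorem kx_anti (x y : I5 → F) :
    kx x * kx y + kx y * kx x = polar (qOdd 2 F) x y • (1 : Matrix II II F) := by
  have h := kx_mul_self (x + y)
  rw [kx_add, add_mul, mul_add, mul_add, kx_mul_self, kx_mul_self, apply_add, add_smul, add_smul] at h
  linear_combination (norm := module) h

theorem mem_sp {g : GL II F} (hg : g ∈ Cfsg.spGL 2 F) :
    (g : Matrix II II F)ᵀ * Matrix.J (Fin 2) F * (g : Matrix II II F) = Matrix.J (Fin 2) F :=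
  SymplecticGroup.mem_iff'.1 (CfsgLib.Classical.Symp.mem_symplecticGroup_iff_form.2 hg)

theorem of_mem_sp {g : GL II F}
    (hg : (g : Matrix II II F)ᵀ * Matrix.J (Fin 2) F * (g : Matrix II II F) = Matrix.J (Fin 2) F) :
    g ∈ Cfsg.spGL 2 F :=
  CfsgLib.Classical.Symp.mem_symplecticGroup_iff_form.1 (SymplecticGroup.mem_iff'.2 hg)

/-- Conjugation. -/
def cj (g : GL II F) (M : Matrix II II F) : Matrix II II F :=
  (g : Matrix II II F) * M * ((g⁻¹ : GL II F) : Matrix II II F)

theorem cj_cj (g h : GL II F) (M : Matrix II II F) : cj (g * h) M = cj g (cj h M) := by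
  simp only [cj, _root_.mul_inv_rev, Units.val_mul, mul_assoc]

theorem cj_one (M : Matrix II II F) : cj (1 : GL II F) M = M := by simp [cj]

theorem cj_inv_cj (g : GL II F) (M : Matrix II II F) : cj g⁻¹ (cj g M) = M := by
  rw [← cj_cj, inv_mul_cancel, cj_one]

theorem isW_cj {g : GL II F} (hg : g ∈ Cfsg.spGL 2 F) {M : Matrix II II F} (hM : IsW M) : IsW (cj g M) := by
  have h := mem_sp hg
  set G := (g : Matrix II II F) with hG
  set G' := ((g⁻¹ : GL II F) : Matrix II II F) with hG'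
  have e1 : G * G' = 1 := Units.mul_inv g
  have e2 : G' * G = 1 := Units.inv_mul g
  have e3 : Gᵀ * Matrix.J (Fin 2) F = Matrix.J (Fin 2) F * G' := by
    conv_lhs => rw [← mul_one (Gᵀ * Matrix.J (Fin 2) F), ← e1, ← mul_assoc, h]
  have e4 : G'ᵀ * Matrix.J (Fin 2) F = Matrix.J (Fin 2) F * G := by
    conv_lhs => rw [← h, ← mul_assoc, ← mul_assoc, ← transpose_mul, e1, transpose_one, one_mul]
  refine ⟨?_, ?_⟩
  · simp only [cj, ← hG, ← hG', transpose_mul]
    rw [mul_assoc, mul_assoc, e3, ← mul_assoc Mᵀ, hM.1, ← mul_assoc, ← mul_assoc, e4]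
    simp only [mul_assoc]
  · rw [cj, trace_mul_cycle, Units.inv_mul, one_mul, hM.2]

variable (h2 : (2 : F) ≠ 0)
include h2

theorem kx_kc_cj {g : GL II F} (hg : g ∈ Cfsg.spGL 2 F) (x : I5 → F) :
    kx (kc (cj g (kx x))) = cj g (kx x) := kx_kc h2 (isW_cj hg (isW_kx x))

/-- The action on the coordinates. -/
def kLin (g : Cfsg.spGL 2 F) : (I5 → F) ≃ₗ[F] (I5 → F) where
  toFun x := kc (cj g (kx x))
  map_add' x y := by rw [← kc_add, kx_add, cj, cj, cj, mul_add, add_mul]
  map_smul' c x := by rw [RingHom.id_apply, ← kc_smul, kx_smul, cj, cj, mul_smul_comm, smul_mul_assoc]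
  invFun x := kc (cj (g⁻¹ : Cfsg.spGL 2 F) (kx x))
  left_inv x := by
    show kc (cj _ (kx (kc (cj g (kx x))))) = x
    rw [kx_kc_cj h2 g.2, InvMemClass.coe_inv, cj_inv_cj, kc_kx]
  right_inv x := by
    show kc (cj g (kx (kc (cj _ (kx x))))) = x
    rw [kx_kc_cj h2 (g⁻¹).2, InvMemClass.coe_inv, ← cj_cj, mul_inv_cancel, cj_one, kc_kx]

theorem kLin_mem (g : Cfsg.spGL 2 F) (x : I5 → F) : qOdd 2 F (kLin h2 g x) = qOdd 2 F x := by
  have h := kx_mul_self (kLin h2 g x)
  rw [show kx (kLin h2 g x) = cj g (kx x) from kx_kc_cj h2 g.2 x] at h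
  have e : cj (g : GL II F) (kx x) * cj g (kx x) = qOdd 2 F x • 1 := by
    rw [cj, mul_assoc (_ * kx x), ← mul_assoc ((g : GL II F)⁻¹ : GL II F).val, ← mul_assoc ((g : GL II F)⁻¹ : GL II F).val,
      Units.inv_mul, one_mul, ← mul_assoc, mul_assoc _ (kx x) (kx x), kx_mul_self, mul_smul_comm, mul_one,
      smul_mul_assoc, Units.mul_inv]
  rw [e] at h
  simpa using (congrFun₂ h (.inl 0) (.inl 0)).symm

/-- The map to the isometry group. -/
def kap : Cfsg.spGL 2 F →* OQ (qOdd 2 F) where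
  toFun g := ⟨kLin h2 g, fun x _ => kLin_mem h2 g x⟩
  map_one' := Subtype.ext (LinearEquiv.ext fun x => by
    show kc (cj _ (kx x)) = x
    rw [OneMemClass.coe_one, cj_one, kc_kx])
  map_mul' g h := Subtype.ext (LinearEquiv.ext fun x => by
    show kc (cj _ (kx x)) = kc (cj g (kx (kc (cj h (kx x)))))
    rw [kx_kc_cj h2 h.2, ← cj_cj]
    rfl)

theorem kx_kap (g : Cfsg.spGL 2 F) (x : I5 → F) :
    kx ((kap h2 g : (I5 → F) ≃ₗ[F] (I5 → F)) x) = cj g (kx x) := kx_kc_cj h2 g.2 x

theorem kap_eq_iff (g : Cfsg.spGL 2 F) (T : OQ (qOdd 2 F)) :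
    kap h2 g = T ↔ ∀ y, ((g : GL II F) : Matrix II II F) * kx y =
      kx ((T : (I5 → F) ≃ₗ[F] (I5 → F)) y) * ((g : GL II F) : Matrix II II F) := by
  constructor
  · rintro rfl y
    rw [kx_kap, cj, mul_assoc (_ * _), Units.inv_mul, mul_one]
  · intro h
    refine Subtype.ext (LinearEquiv.ext fun y => kx_injective ?_)
    rw [kx_kap, cj, h, mul_assoc, Units.mul_inv, mul_one]

/-- Elements of the kernel. -/
theorem eq_or_eq_neg_of_kap {g h : Cfsg.spGL 2 F} (e : kap h2 g = kap h2 h) :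
    (g : GL II F) = h ∨ (g : GL II F) = -(h : GL II F) := by
  set d := h⁻¹ * g with hd
  have h1 : kap h2 d = 1 := by rw [hd, map_mul, map_inv, e, inv_mul_cancel]
  have hc := (kap_eq_iff h2 d 1).1 h1
  simp only [OneMemClass.coe_one, LinearEquiv.coe_one, id_eq] at hc
  set D := ((d : GL II F) : Matrix II II F)
  have q0 := hc (Pi.single (.inl ()) 1)
  have q1 := hc (Pi.single (.inr (.inl 0)) 1)
  have q2 := hc (Pi.single (.inr (.inr 0)) 1)
  have q3 := hc (Pi.single (.inr (.inl 1)) 1)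
  have q4 := hc (Pi.single (.inr (.inr 1)) 1)
  have hz : ∀ {t : F}, t = -t → t = 0 := fun {t} h =>
    (mul_eq_zero.1 (show (2 : F) * t = 0 by linear_combination h)).resolve_left h2
  have E := fun i j => And.intro (congrFun₂ q0 i j) (And.intro (congrFun₂ q1 i j)
    (And.intro (congrFun₂ q2 i j) (And.intro (congrFun₂ q3 i j) (congrFun₂ q4 i j))))
  simp [kx, Matrix.mul_apply, Fintype.sum_sum_type, Fin.sum_univ_two, Fin.forall_fin_two] at E
  have hD : D = D (.inl 0) (.inl 0) • 1 := by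
    ext i j
    rcases i with i | i <;> rcases j with j | j <;> fin_cases i <;> fin_cases j <;> simp <;> grind
  have hJ : D (.inl 0) (.inl 0) * D (.inl 0) (.inl 0) = 1 := by
    have := mem_sp d.2
    rw [show ((d : GL II F) : Matrix II II F) = _ from hD, transpose_smul, transpose_one, smul_mul_assoc, one_mul,
      smul_mul_assoc, mul_smul_comm, mul_one, smul_smul] at this
    have := congrFun₂ this (.inr 0) (.inl 0)
    simpa [Matrix.J] using this
  have hg : (g : GL II F) = h * d := by rw [hd]; simp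
  rcases mul_self_eq_one_iff.1 hJ with e' | e'
  · left
    rw [hg, show (d : GL II F) = 1 from Units.ext (by rw [show ((d : GL II F) : Matrix II II F) = _ from hD, e', one_smul]; rfl),
      mul_one]
  · right
    rw [hg, show (d : GL II F) = -1 from Units.ext (by rw [show ((d : GL II F) : Matrix II II F) = _ from hD, e', neg_one_smul]; rfl),
      mul_neg, mul_one]

omit h2 in
theorem neg_mem_sp {g : GL II F} (hg : g ∈ Cfsg.spGL 2 F) : -g ∈ Cfsg.spGL 2 F :=
  of_mem_sp (by simpa using mem_sp hg)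

theorem kap_neg (g : Cfsg.spGL 2 F) : kap h2 ⟨-(g : GL II F), neg_mem_sp g.2⟩ = kap h2 g :=
  (kap_eq_iff h2 _ _).2 fun y => by
    have := (kap_eq_iff h2 g (kap h2 g)).1 rfl y
    simp [this]

/-! ### Products of two reflections -/

theorem kx_refl {v : I5 → F} (hv : qOdd 2 F v ≠ 0) (y : I5 → F) :
    kx ((refl hv : (I5 → F) ≃ₗ[F] (I5 → F)) y) = -((qOdd 2 F v)⁻¹ • (kx v * kx y * kx v)) := by
  have h : kx v * kx y * kx v = polar (qOdd 2 F) y v • kx v - qOdd 2 F v • kx y := by
    rw [show kx v * kx y = polar (qOdd 2 F) y v • 1 - kx y * kx v by rw [← kx_anti]; abel, sub_mul, smul_mul_assoc,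
      one_mul, mul_assoc, kx_mul_self, mul_smul_comm, mul_one]
  rw [refl_apply, kx_sub, kx_smul, h, smul_sub, smul_smul, smul_smul, inv_mul_cancel₀ hv, one_smul, neg_sub]

theorem exists_lift_refl {u v : I5 → F} (hu : qOdd 2 F u ≠ 0) (hv : qOdd 2 F v ≠ 0) {l : F}
    (hl : qOdd 2 F u * qOdd 2 F v = l * l) :
    ∃ g : Cfsg.spGL 2 F, ((g : GL II F) : Matrix II II F) = l⁻¹ • (kx u * kx v) ∧
      kap h2 g = refl hu * refl hv := by
  have hl0 : l ≠ 0 := fun e => mul_ne_zero hu hv (by rw [hl, e, zero_mul])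
  have e1 : kx u * kx v * (kx v * kx u) = (l * l) • 1 := by
    rw [mul_assoc, ← mul_assoc (kx v), kx_mul_self, smul_mul_assoc, one_mul, mul_smul_comm, kx_mul_self, smul_smul,
      mul_comm, hl]
  have e2 : kx v * kx u * (kx u * kx v) = (l * l) • 1 := by
    rw [mul_assoc, ← mul_assoc (kx u), kx_mul_self, smul_mul_assoc, one_mul, mul_smul_comm, kx_mul_self, smul_smul, hl]
  let g : GL II F := ⟨l⁻¹ • (kx u * kx v), l⁻¹ • (kx v * kx u),
    by rw [smul_mul_assoc, mul_smul_comm, e1, smul_smul, smul_smul]; field_simp; rw [one_smul],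
    by rw [smul_mul_assoc, mul_smul_comm, e2, smul_smul, smul_smul]; field_simp; rw [one_smul]⟩
  have hg : g ∈ Cfsg.spGL 2 F := by
    refine of_mem_sp ?_
    show (l⁻¹ • (kx u * kx v))ᵀ * Matrix.J (Fin 2) F * (l⁻¹ • (kx u * kx v)) = Matrix.J (Fin 2) F
    rw [transpose_smul, transpose_mul, smul_mul_assoc, mul_assoc (kx v)ᵀ, (isW_kx u).1, ← mul_assoc, (isW_kx v).1,
      smul_mul_assoc, mul_smul_comm, smul_smul, mul_assoc (Matrix.J (Fin 2) F), mul_assoc, e2, mul_smul_comm,
      smul_smul, mul_one]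
    field_simp
    rw [one_smul]
  refine ⟨⟨g, hg⟩, rfl, (kap_eq_iff h2 _ _).2 fun y => ?_⟩
  show l⁻¹ • (kx u * kx v) * kx y =
    kx ((refl hu : (I5 → F) ≃ₗ[F] (I5 → F)) ((refl hv : (I5 → F) ≃ₗ[F] (I5 → F)) y)) * (l⁻¹ • (kx u * kx v))
  rw [kx_refl h2 hu, kx_refl h2 hv]
  simp only [mul_neg, neg_mul, smul_neg, neg_neg, mul_smul_comm, smul_mul_assoc, smul_smul]
  have e : kx u * (kx v * kx y * kx v) * kx u * (kx u * kx v) =
      (qOdd 2 F u * qOdd 2 F v) • (kx u * kx v * kx y) := by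
    simp only [mul_assoc]
    rw [← mul_assoc (kx u) (kx u) (kx v), kx_mul_self, smul_mul_assoc, one_mul, mul_smul_comm, kx_mul_self]
    simp only [mul_smul_comm, mul_one, smul_smul]
  rw [e, smul_smul]
  congr 1
  field_simp

/-! ### Eichler transformations -/

theorem exists_lift_eich (hQ : (polarBilin (qOdd 2 F)).Nondegenerate) {w a : I5 → F} (hw : qOdd 2 F w = 0)
    (ha : polar (qOdd 2 F) w a = 0) :
    ∃ g : Cfsg.spGL 2 F, ((g : GL II F) : Matrix II II F) = 1 + kx w * kx a ∧ kap h2 g = eich hQ hw ha := by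
  set A := kx w with hA
  set C := kx a with hC
  have hAA : A * A = 0 := by rw [hA, kx_mul_self, hw, zero_smul]
  have hAC : C * A = -(A * C) := by
    have := kx_anti w a
    rw [ha, zero_smul, ← hA, ← hC] at this
    exact eq_neg_of_add_eq_zero_right this
  have hN : A * C * (A * C) = 0 := by
    rw [mul_assoc, ← mul_assoc C, hAC, neg_mul, mul_neg, mul_assoc A C C, ← mul_assoc, hAA, zero_mul, neg_zero]
  have hN2 : (1 + A * C) * (1 - A * C) = 1 := by
    rw [mul_sub, mul_one, add_mul, one_mul, hN]; abel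
  have hN3 : (1 - A * C) * (1 + A * C) = 1 := by
    rw [mul_add, mul_one, sub_mul, one_mul, hN]; abel
  have hg : (⟨1 + A * C, 1 - A * C, hN2, hN3⟩ : GL II F) ∈ Cfsg.spGL 2 F := by
    refine of_mem_sp ?_
    show (1 + A * C)ᵀ * Matrix.J (Fin 2) F * (1 + A * C) = Matrix.J (Fin 2) F
    rw [transpose_add, transpose_one, transpose_mul, add_mul, one_mul, mul_assoc Cᵀ, hA, hC, (isW_kx w).1,
      ← mul_assoc (kx a)ᵀ, (isW_kx a).1, mul_assoc (Matrix.J (Fin 2) F), ← hA, ← hC, hAC, mul_neg, ← sub_eq_add_neg]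
    nth_rewrite 1 [← mul_one (Matrix.J (Fin 2) F)]
    rw [← mul_sub, mul_assoc, hN3, mul_one]
  refine ⟨⟨_, hg⟩, rfl, (kap_eq_iff h2 _ _).2 fun y => ?_⟩
  show (1 + A * C) * kx y = kx ((eich hQ hw ha : (I5 → F) ≃ₗ[F] (I5 → F)) y) * (1 + A * C)
  set Y := kx y
  set Pa := polar (qOdd 2 F) y a
  set Pw := polar (qOdd 2 F) y w
  rw [eich_apply, kx_add, kx_add, kx_smul, kx_smul, ← hA, ← hC, show kx y = Y from rfl]
  have hY1 : C * Y = Pa • 1 - Y * C := by rw [← kx_anti y a]; abel
  have hY2 : Y * A = Pw • 1 - A * Y := by rw [← kx_anti y w]; abel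
  have hCC : C * C = qOdd 2 F a • 1 := by rw [hC, kx_mul_self]
  have l1 : A * C * Y = Pa • A - A * Y * C := by rw [mul_assoc, hY1, mul_sub, mul_smul_comm, mul_one, mul_assoc]
  have r1 : Y * (A * C) = Pw • C - A * Y * C := by rw [← mul_assoc, hY2, sub_mul, smul_mul_assoc, one_mul]
  have r2 : A * (A * C) = 0 := by rw [← mul_assoc, hAA, zero_mul]
  have r3 : C * (A * C) = -(qOdd 2 F a • A) := by
    rw [← mul_assoc, hAC, neg_mul, mul_assoc, hCC, mul_smul_comm, mul_one]
  rw [add_mul, one_mul, l1]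
  simp only [add_mul, mul_add, mul_one, smul_mul_assoc, r1, r2, r3, smul_zero, smul_neg, smul_smul]
  module

omit h2 in
theorem sq_zero_example :
    kx (Pi.single (Sum.inr (Sum.inl 0)) (1 : F) : I5 → F) * kx (Pi.single (Sum.inr (Sum.inl 1)) 1) =
      -Matrix.single (Sum.inl 0) (Sum.inr 0) 1 := by
  ext i j
  rcases i with i | i <;> rcases j with j | j <;> fin_cases i <;> fin_cases j <;>
    simp [kx, Matrix.mul_apply, Fintype.sum_sum_type, Fin.sum_univ_two]

theorem range_kap [Finite F] (hQ : (polarBilin (qOdd 2 F)).Nondegenerate) :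
    (kap h2).range = eichGroup hQ := by
  refine le_antisymm ?_ ((Subgroup.closure_le _).2 ?_)
  swap
  · rintro _ ⟨w, a, hw, ha, -, rfl⟩
    obtain ⟨g, -, hg⟩ := exists_lift_eich h2 hQ hw ha
    exact ⟨g, hg⟩
  rw [MonoidHom.range_eq_map, Subgroup.map_le_iff_le_comap]
  have hA := Symp.sympBil_isAlt 2 F
  let ψ : Cfsg.spGL 2 F ≃* Symp.Sp (Symp.sympBil 2 F) :=
    (preservingEquivIso (Cfsg.sympForm 2 F)).trans (MulEquiv.subgroupCongr (Symp.iso_sympForm_eq 2 F))
  set H := (eichGroup hQ).comap (kap h2) with hH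
  set H' := H.map ψ.toMonoidHom
  set e₀ : II → F := Pi.single (Sum.inl 0) 1 with he₀
  have h0 : ∀ c, Symp.tr hA e₀ c ∈ H' := by
    intro c
    set w : I5 → F := (-c) • Pi.single (Sum.inr (Sum.inl 0)) 1
    set a : I5 → F := Pi.single (Sum.inr (Sum.inl 1)) 1
    have hw : qOdd 2 F w = 0 := by simp [w, coe_qOdd, Cfsg.quadFormOdd, Fin.sum_univ_two]
    have hqa : qOdd 2 F a = 0 := by simp [a, coe_qOdd, Cfsg.quadFormOdd, Fin.sum_univ_two]
    have ha : polar (qOdd 2 F) w a = 0 := by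
      simp [w, a, polar, coe_qOdd, Cfsg.quadFormOdd, Fin.sum_univ_two]
    obtain ⟨g, hgv, hg⟩ := exists_lift_eich h2 hQ hw ha
    refine ⟨g, show kap h2 g ∈ eichGroup hQ from hg ▸ eich_mem_of_singular hQ hw ha hqa, ?_⟩
    refine Subtype.ext (LinearEquiv.ext fun x => ?_)
    show ((g : GL II F) : Matrix II II F) *ᵥ x = _
    rw [hgv, Symp.tr_apply, kx_smul, smul_mul_assoc, sq_zero_example, Symp.sympBil_apply, Symp.sympForm_expand,
      smul_neg, neg_smul, neg_neg]
    funext i
    rcases i with i | i <;> fin_cases i <;>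
      simp [e₀, Matrix.add_mulVec, Matrix.smul_mulVec, Matrix.mulVec, dotProduct, Fintype.sum_sum_type,
        Fin.sum_univ_two, Matrix.single_apply]
  have : H'.Normal := Subgroup.Normal.map inferInstance _ ψ.surjective
  have htop : H' = ⊤ := by
    refine SympMax.eq_top_of_tr hA (Symp.sympBil_nondegenerate 2 F) fun v c => ?_
    rcases eq_or_ne v 0 with rfl | hv
    · rw [show Symp.tr hA 0 c = 1 from Subtype.ext (LinearEquiv.ext fun x => by simp [Symp.tr_apply])]
      exact one_mem _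
    have hu : e₀ ≠ 0 := fun e => by simpa [e₀] using congrFun e (Sum.inl 0)
    obtain ⟨g, -, hg⟩ := Symp.sp_transitive_ne_zero hA (Symp.sympBil_nondegenerate 2 F) hu hv
    rw [← hg, ← Symp.conj_tr]
    exact this.conj_mem _ (h0 c) g
  intro g _
  have := htop.ge (Subgroup.mem_top (ψ g))
  rwa [Subgroup.mem_map_equiv, MulEquiv.symm_apply_apply] at this

/-- Maximality through the representation. -/
theorem isMaximalIn_of_kap [Finite F] (hQ : (polarBilin (qOdd 2 F)).Nondegenerate) {S : Subgroup (GL II F)}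
    {P : Subgroup (OQ (qOdd 2 F))} (hS : ∀ g : Cfsg.spGL 2 F, (g : GL II F) ∈ S ↔ kap h2 g ∈ P)
    (hne : ¬ eichGroup hQ ≤ P)
    (hmax : ∀ K : Subgroup (OQ (qOdd 2 F)), P ⊓ eichGroup hQ < K → K ≤ eichGroup hQ → eichGroup hQ ≤ K) :
    Cfsg.Geo.IsMaximalIn (Cfsg.spGL 2 F) (S ⊓ Cfsg.spGL 2 F) := by
  have hr := range_kap h2 hQ
  refine ⟨lt_of_le_of_ne inf_le_right fun he => hne fun x hx => ?_, fun M hM hMS => ?_⟩
  · obtain ⟨g, rfl⟩ := hr.ge hx
    exact (hS g).1 (he.ge g.2).1
  refine (eq_or_lt_of_le hM).imp Eq.symm fun hlt => le_antisymm hMS ?_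
  obtain ⟨g₀, hgM, hgn⟩ := SetLike.exists_of_lt hlt
  set K := (M.subgroupOf (Cfsg.spGL 2 F)).map (kap h2)
  have hKE : K ≤ eichGroup hQ := hr ▸ Subgroup.map_le_range _ _
  have hPK : P ⊓ eichGroup hQ < K := by
    refine lt_of_le_of_ne ?_ fun e => hgn ⟨(hS ⟨g₀, hMS hgM⟩).2 ?_, hMS hgM⟩
    · rintro x ⟨hxP, hxE⟩
      obtain ⟨g, rfl⟩ := hr.ge hxE
      exact ⟨g, hM ⟨(hS g).2 hxP, g.2⟩, rfl⟩
    · exact (e.ge ⟨⟨g₀, hMS hgM⟩, hgM, rfl⟩ : kap h2 ⟨g₀, hMS hgM⟩ ∈ P ⊓ eichGroup hQ).1
  intro x hx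
  obtain ⟨m, hm, he⟩ := hmax K hPK hKE (hr ▸ ⟨⟨x, hx⟩, rfl⟩ : kap h2 ⟨x, hx⟩ ∈ eichGroup hQ)
  rcases eq_or_eq_neg_of_kap h2 he.symm with e | e
  · rw [show x = (m : GL II F) from e]
    exact hm
  · have hn : (⟨-(1 : GL II F), neg_mem_sp (one_mem _)⟩ : Cfsg.spGL 2 F).1 ∈ M :=
      hM ⟨(hS _).2 (by rw [show kap h2 ⟨-(1 : GL II F), neg_mem_sp (one_mem _)⟩ = kap h2 1 from kap_neg h2 1, map_one]
                       exact one_mem _), neg_mem_sp (one_mem _)⟩
    rw [show x = -(m : GL II F) from e]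
    have := mul_mem hn (show (m : GL II F) ∈ M from hm)
    rwa [neg_mul, one_mul] at this

end CfsgLib.Geo.KleinSp
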