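import Cfsg.Agent.Lib.Geo.OrthNondegSeven
import Cfsg.Agent.Lib.Classical.Quad.Sym

/-!
# Stabilisers of nondegenerate planes are maximal in `Ω₅(q)`, `q ≥ 5`
-/

set_option autoImplicit false
set_option maxHeartbeats 1000000

namespace CfsgLib.Geo.KleinSp.Plane

open CfsgLib.Classical CfsgLib.Classical.Quad
open CfsgLib.Geo.OrthMax
open QuadraticMap (polar polarBilin)

variable {F : Type*} [Field F] [Finite F]

theorem exists_sq_ne (h5 : 5 ≤ Nat.card F) (c : F) : ∃ t : F, t ≠ 0 ∧ t * t ≠ c := by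
  classical
  have : Fintype F := Fintype.ofFinite F
  by_contra! h
  have h1 := h 1 one_ne_zero
  have hs : (Finset.univ : Finset F) ⊆ {0, 1, -1} := fun t _ => by
    rcases eq_or_ne t 0 with rfl | ht
    · simp
    have := h t ht
    rw [← h1, one_mul] at this
    rcases mul_self_eq_one_iff.1 this with e | e <;> simp [e]
  have := (Finset.card_le_card hs).trans Finset.card_le_three
  rw [Finset.card_univ, ← Nat.card_eq_fintype_card] at this
  omega

theorem nonsq_mul {a b : F} (h2 : (2 : F) ≠ 0) (ha : ¬ IsSquare a) (hb : ¬ IsSquare b) : IsSquare (a * b) := by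
  have hb0 : b ≠ 0 := fun h => hb (h ▸ IsSquare.zero)
  obtain ⟨c, hc, h | h⟩ := exists_square_class h2 hb0 ha
  · exact absurd ⟨c⁻¹, by field_simp; linear_combination h⟩ hb
  · exact ⟨c * b, by rw [← h]; ring⟩

/-- Some `y ^ 2 + k` is a non-square. -/
theorem exists_nonsq_add (h2 : (2 : F) ≠ 0) {k : F} (hk : k ≠ 0) : ∃ y : F, ¬ IsSquare (y * y + k) := by
  classical
  have : Fintype F := Fintype.ofFinite F
  by_contra! h
  obtain ⟨n, hn⟩ := FiniteField.exists_nonsquare (F := F) fun h' => h2 (by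
    have : CharP F 2 := ringChar.eq_iff.1 h'
    exact_mod_cast CharP.cast_eq_zero F 2)
  obtain ⟨r, s, hrs⟩ := exists_sum_two_squares h2 hk hk n
  have step : ∀ y r : F, IsSquare (y * y + k * r ^ 2) := fun y r => by
    rcases eq_or_ne r 0 with rfl | hr
    · exact ⟨y, by ring⟩
    · obtain ⟨z, hz⟩ := h (y / r)
      refine ⟨r * z, ?_⟩
      rw [show r * z * (r * z) = r * r * (z * z) by ring, ← hz]
      field_simp
  obtain ⟨z, hz⟩ := step 0 r
  exact hn (by rw [← hrs, show k * r ^ 2 = 0 * 0 + k * r ^ 2 by ring, hz]; exact step z s)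

variable {V : Type*} [AddCommGroup V] [Module F V] [FiniteDimensional F V] {Q : QuadraticForm F V}

omit [Finite F] [FiniteDimensional F V] in
theorem le_span_pair {W : Submodule F V} (hW2 : Module.finrank F W = 2) {w r : V} (hw : w ∈ W) (hr : r ∈ W)
    (hw0 : w ≠ 0) (hrw : r ∉ Submodule.span F {w}) : W ≤ Submodule.span F {w, r} := by
  have : FiniteDimensional F W := Module.finite_of_finrank_pos (by omega)
  have hli : LinearIndependent F ![w, r] := (LinearIndependent.pair_iff' hw0).2 fun a e =>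
    hrw (Submodule.mem_span_singleton.2 ⟨a, e⟩)
  have h := finrank_span_eq_card hli
  rw [show Set.range ![w, r] = {w, r} by ext; simp [Fin.exists_fin_two, eq_comm, or_comm]] at h
  exact (Submodule.eq_of_le_of_finrank_le (Submodule.span_le.2 (by simp [Set.insert_subset_iff, hw, hr]))
    (by rw [h, hW2]; simp)).ge

omit [Finite F] [FiniteDimensional F V] in
theorem plane_zero {W : Submodule F V} (hW : Nondeg Q W) (hW2 : Module.finrank F W = 2) {w r c : V} (hw : w ∈ W)
    (hr : r ∈ W) (hc : c ∈ W) (hw0 : w ≠ 0) (hrw : r ∉ Submodule.span F {w}) (h1 : polar Q w c = 0)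
    (h2 : polar Q r c = 0) : c = 0 := by
  refine hW c hc fun y hy => ?_
  obtain ⟨a, b, rfl⟩ := Submodule.mem_span_pair.1 (le_span_pair hW2 hw hr hw0 hrw hy)
  rw [polar_add_right', polar_smul_right', polar_smul_right', QuadraticMap.polar_comm (⇑Q) c w,
    QuadraticMap.polar_comm (⇑Q) c r, h1, h2]
  ring

variable (hQ : (polarBilin Q).Nondegenerate)
include hQ

omit [Finite F] in
/-- Totally singular subspaces of a nondegenerate three-space are lines. -/
theorem mem_span_of_singular {U : Submodule F V} (hU : Nondeg Q U) (hU3 : Module.finrank F U = 3) {p q : V}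
    (hp : p ∈ U) (hq : q ∈ U) (hqp : Q p = 0) (hqq : Q q = 0) (hpq : polar Q p q = 0) (hp0 : p ≠ 0) :
    q ∈ Submodule.span F {p} := by
  by_contra hq'
  have hli : LinearIndependent F ![(⟨p, hp⟩ : U), ⟨q, hq⟩] :=
    (LinearIndependent.pair_iff' (fun e => hp0 (congrArg Subtype.val e))).2 fun a e =>
      hq' (Submodule.mem_span_singleton.2 ⟨a, congrArg Subtype.val e⟩)
  set P := Submodule.span F (Set.range ![(⟨p, hp⟩ : U), ⟨q, hq⟩])
  have hP : Module.finrank F P = 2 := by rw [finrank_span_eq_card hli]; simp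
  have hle : P ≤ perp (Q.comp U.subtype) P := by
    refine Submodule.span_le.2 ?_
    rintro _ ⟨i, rfl⟩
    refine mem_perp.2 fun y hy => ?_
    induction hy using Submodule.span_induction with
    | mem y hy =>
      obtain ⟨j, rfl⟩ := hy
      rw [polar_comp]
      fin_cases i <;> fin_cases j <;> simp [polar_self', hqp, hqq, hpq, QuadraticMap.polar_comm (⇑Q) q p]
    | zero => rw [QuadraticMap.polar_zero_left]
    | add a b _ _ ha hb => rw [polar_add_left', ha, hb, add_zero]
    | smul c a _ ha => rw [polar_smul_left', ha, mul_zero]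
  have := Submodule.finrank_mono hle
  rw [OrthMax.finrank_perp hU.comp, hP, hU3] at this
  omega

omit [Finite F] in
theorem eich_self_one {z : V} (hqz : Q z = 0) (t : F) (h : polar Q z (t • z) = 0) :
    eich hQ hqz h = 1 := by
  refine Subtype.ext (LinearEquiv.ext fun y => ?_)
  rw [eich_apply, apply_smul, hqz, polar_smul_right']
  simp only [mul_zero, zero_mul, sub_zero, OneMemClass.coe_one, LinearEquiv.coe_one, id_eq]
  module

variable {K : Subgroup (OQ Q)}

omit [Finite F] in
theorem has_self (z : V) (t : F) : Has hQ K z (t • z) := fun hqz h => by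
  rw [eich_self_one hQ hqz t h]; exact K.one_mem

variable (hn : 5 ≤ Module.finrank F V) {W : Submodule F V} (hW : Nondeg Q W) (hK : stab hQ W ≤ K)
  (h2 : (2 : F) ≠ 0)
include hn hW hK h2

omit h2 in
theorem to_seed {w u x : V} {k : F} (hw : w ∈ W) (hu : u ∈ perp Q W) (hx : x ∈ perp Q W) (hx0 : x ≠ 0)
    (hk : k ≠ 0) (hqz : Q (w + u) = 0) (hqx : Q x = 0) (hux : polar Q u x = 0) (h : Has hQ K (w + u) (k • x)) :
    ∃ x ∈ perp Q W, x ≠ 0 ∧ Q x = 0 ∧ Has hQ K x (-w) :=
  ⟨k • x, Submodule.smul_mem _ _ hx, smul_ne_zero hk hx0, by rw [apply_smul, hqx, mul_zero],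
    seed_of_singular hQ hn hW hK hw hu (Submodule.smul_mem _ _ hx) hqz (by rw [apply_smul, hqx, mul_zero])
      (by rw [polar_smul_right', hux, mul_zero]) h⟩

omit hn hW hK h2 in
/-- A long root along the totally singular line `<z, x>`. -/
theorem to_long {z x : V} {s κ : F} (hqz : Q z = 0) (hqx : Q x = 0) (hzx : polar Q z x = 0)
    (h : Has hQ K (z + s • x) (κ • z)) : Has hQ K z ((κ * s) • x) := by
  have hqz1 : Q (z + s • x) = 0 := by rw [apply_add, apply_smul, hqz, hqx, polar_smul_right', hzx]; ring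
  rcases eq_or_ne κ 0 with rfl | hκ
  · intro h1 h2
    simp_rw [zero_mul, zero_smul]
    rw [eich_zero_right hQ h1]
    exact K.one_mem
  have h' : Has hQ K (z + s • x) (-((-κ) • z)) := by rwa [neg_smul, neg_neg]
  have h1 : Has hQ K z ((-κ) • (z + s • x)) :=
    (h'.swap hQ (by rw [apply_smul, hqz, mul_zero]) hqz1).smul_left hQ (neg_ne_zero.2 hκ)
  have h3 := h1.add hQ (has_self hQ (K := K) z κ)
    (by rw [polar_smul_right', polar_add_right', polar_self', hqz, polar_smul_right', hzx]; ring)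
  have h4 : Has hQ K z ((-(κ * s)) • x) := by
    rwa [show (-κ) • (z + s • x) + κ • z = (-(κ * s)) • x by module] at h3
  intro h5 h6
  have h7 : polar Q z (-(κ * s) • x) = 0 := by rw [polar_smul_right', hzx, mul_zero]
  have h8 := K.inv_mem (h4 h5 h7)
  rwa [eich_inv hQ h5 h7, eich_congr hQ rfl (show -(-(κ * s) • x) = (κ * s) • x by module)] at h8

/-- A moved vector with a singular vector beside it. -/
theorem good_seed (h5 : 5 ≤ Nat.card F) (hW2 : Module.finrank F W = 2) (h3 : 3 ≤ Module.finrank F (perp Q W))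
    {w u x e : V} (hw : w ∈ W) (hw0 : w ≠ 0) (hu : u ∈ perp Q W) (hqz : Q (w + u) = 0) (hx : x ∈ perp Q W)
    (hx0 : x ≠ 0) (hqx : Q x = 0) (hux : polar Q u x = 0) (hze : polar Q (w + u) e = 0) (hqe : Q e ≠ 0)
    (hz : ∀ t : F, Has hQ K (w + u) (t • e)) :
    ∃ x ∈ perp Q W, x ≠ 0 ∧ Q x = 0 ∧ Has hQ K x (-w) := by
  have hU := hW.perp hQ
  set U := perp Q W
  obtain ⟨z, hzd⟩ : ∃ z, z = w + u := ⟨_, rfl⟩
  rw [← hzd] at hze hz hqz
  have hzx : polar Q z x = 0 := by rw [hzd, polar_add_left', mem_perp.1 hx w hw, hux, add_zero]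
  have hxz : polar Q x z = 0 := by rw [QuadraticMap.polar_comm, hzx]
  have hzz : polar Q z z = 0 := by rw [polar_self', hqz, mul_zero]
  have hzU : ∀ y ∈ U, polar Q z y = polar Q u y := fun y hy => by
    rw [hzd, polar_add_left', mem_perp.1 hy w hw, zero_add]
  have hse : ∀ r : F, polar Q z (r • e) = 0 := fun r => by rw [polar_smul_right', hze, mul_zero]
  -- conjugates by the root group at `x`
  have conj : ∀ y ∈ U, polar Q x y = 0 → ∀ r : F, Has hQ K (z + polar Q u y • x)
      (r • (e + (polar Q e y - Q y * polar Q e x) • x + (-polar Q e x) • y)) := by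
    intro y hy hxy r
    have hk : eich hQ hqx hxy ∈ K := has_stab hQ hn hK (Or.inr ⟨hx, hy⟩) hqx hxy
    have h := (hz r).conj hQ hk
    rw [map_smul, eich_apply, eich_apply, hzU y hy, hzx] at h
    simpa using h
  set C := polar Q e x with hC
  by_cases hux' : u ∈ Submodule.span F {x}
  · have huy : ∀ y ∈ U, polar Q x y = 0 → polar Q u y = 0 := fun y _ hxy => by
      obtain ⟨l, rfl⟩ := Submodule.mem_span_singleton.1 hux'
      rw [polar_smul_left', hxy, mul_zero]
    have delta : ∀ y ∈ U, polar Q x y = 0 →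
        Has hQ K z ((polar Q e y - Q y * C) • x + (-C) • y) := by
      intro y hy hxy
      have h := conj y hy hxy 1
      rw [huy y hy hxy, zero_smul, add_zero, one_smul] at h
      have h' := (hz (-1)).add hQ h (hse _)
      rwa [show (-1 : F) • e + (e + (polar Q e y - Q y * C) • x + (-C) • y) =
        (polar Q e y - Q y * C) • x + (-C) • y by module] at h'
    by_cases hC0 : C = 0
    · obtain ⟨y, hy, hxy, hey⟩ : ∃ y ∈ U, polar Q x y = 0 ∧ polar Q e y ≠ 0 := by
        by_contra! hc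
        obtain ⟨c, hc', d, hd, rfl⟩ := hW.exists_add hQ e
        obtain ⟨l, rfl⟩ := Submodule.mem_span_singleton.1
          (mem_span_of_perp_singular hU hx hqx hx0 hd fun y hy hxy => by
            have := hc y hy hxy
            rwa [polar_add_left', mem_perp.1 hy c hc', zero_add] at this)
        obtain ⟨m, rfl⟩ := Submodule.mem_span_singleton.1 hux'
        have hqw : Q w = 0 := by
          have := hqz
          rwa [hzd, apply_add, apply_smul, hqx, mem_perp.1 hu w hw, mul_zero, add_zero, add_zero] at this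
        have hwc : polar Q w c = 0 := by
          have := hze
          rw [hzd, polar_add_left', polar_add_right', polar_add_right', mem_perp.1 hd w hw, perp_left hu hc',
            polar_smul_left', polar_smul_right', polar_self', hqx] at this
          simpa using this
        have hqc : Q c ≠ 0 := by
          have := hqe
          rwa [apply_add, apply_smul, hqx, mem_perp.1 hd c hc', mul_zero, add_zero, add_zero] at this
        have hcw : c ∉ Submodule.span F {w} := fun h => by
          obtain ⟨r, rfl⟩ := Submodule.mem_span_singleton.1 h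
          exact hqc (by rw [apply_smul, hqw, mul_zero])
        exact hw0 (plane_zero hW hW2 hw hc' hw hw0 hcw (by rw [polar_self', hqw, mul_zero])
          (by rw [QuadraticMap.polar_comm, hwc]))
      have h := delta y hy hxy
      rw [hC0, mul_zero, sub_zero, neg_zero, zero_smul, add_zero] at h
      subst hzd
      exact to_seed hQ hn hW hK hw hu hx hx0 hey hqz hqx hux h
    · obtain ⟨y, hy, hxy, hqy⟩ := exists_aniso_beside hU h3 hx hqx hx0
      have h1 := delta y hy hxy
      have h1' := delta (-y) (U.neg_mem hy) (by rw [QuadraticMap.polar_neg_right, hxy, neg_zero])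
      have h := h1.add hQ h1' (by
        rw [polar_add_right', polar_smul_right', polar_smul_right', hzx, hzU y hy, huy y hy hxy]; ring)
      rw [QuadraticMap.map_neg, QuadraticMap.polar_neg_right,
        show (polar Q e y - Q y * C) • x + (-C) • y + ((-polar Q e y - Q y * C) • x + (-C) • -y) =
          (-(2 * Q y * C)) • x by module] at h
      subst hzd
      exact to_seed hQ hn hW hK hw hu hx hx0 (neg_ne_zero.2 (mul_ne_zero (mul_ne_zero h2 hqy) hC0)) hqz hqx hux h
  obtain ⟨y, hy, hxy, hG⟩ : ∃ y ∈ U, polar Q x y = 0 ∧ polar Q u y ≠ 0 := by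
    by_contra! hc
    exact hux' (mem_span_of_perp_singular hU hx hqx hx0 hu hc)
  set G := polar Q u y with hGd
  set P := polar Q e y with hP
  have hzy : polar Q z y = G := hzU y hy
  by_cases hC0 : C = 0
  · -- everything is orthogonal to the line
    have h1 := conj y hy hxy 1
    rw [← hGd, ← hP, hC0, mul_zero, sub_zero, neg_zero, zero_smul, add_zero, one_smul] at h1
    obtain ⟨z1, hz1⟩ : ∃ z1, z1 = z + G • x := ⟨_, rfl⟩
    obtain ⟨e1, he1⟩ : ∃ e1, e1 = e + P • x := ⟨_, rfl⟩
    rw [← hz1, ← he1] at h1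
    have hqz1 : Q z1 = 0 := by rw [hz1, apply_add, apply_smul, hqz, hqx, polar_smul_right', hzx]; ring
    have hex : polar Q e x = 0 := hC0
    have h1e : polar Q z1 e = 0 := by
      rw [hz1, polar_add_left', polar_smul_left', hze, QuadraticMap.polar_comm (⇑Q) x e, hex]; ring
    have h1x : polar Q z1 x = 0 := by rw [hz1, polar_add_left', polar_smul_left', hzx, polar_self', hqx]; ring
    have h11 : polar Q z1 e1 = 0 := by rw [he1, polar_add_right', polar_smul_right', h1e, h1x]; ring
    have hk : eich hQ hqz hze ∈ K := by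
      have := hz 1; rw [one_smul] at this; exact this hqz hze
    have h3' := h1.conj hQ hk
    rw [eich_apply, eich_apply, h1e, show polar Q z1 z = 0 by
        rw [hz1, polar_add_left', polar_smul_left', hzz, hxz]; ring,
      show polar Q e1 e = 2 * Q e by
        rw [he1, polar_add_left', polar_smul_left', polar_self', QuadraticMap.polar_comm (⇑Q) x e, hex]; ring,
      show polar Q e1 z = 0 by
        rw [he1, polar_add_left', polar_smul_left', QuadraticMap.polar_comm (⇑Q) e z, hze, hxz]; ring] at h3'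
    simp only [mul_zero, sub_zero, zero_smul, add_zero, neg_zero] at h3'
    have hneg : Has hQ K z1 (-e1) := fun hw' ha' => by
      rw [← eich_inv hQ hqz1 h11]
      exact K.inv_mem (h1 hqz1 h11)
    have h4 := hneg.add hQ h3' (by rw [QuadraticMap.polar_neg_right, h11, neg_zero])
    rw [neg_add_cancel_left] at h4
    subst hz1 hzd
    exact to_seed hQ hn hW hK hw hu hx hx0 (mul_ne_zero (mul_ne_zero h2 hqe) hG) hqz hqx hux
      (to_long hQ hqz hqx hzx h4)
  · obtain ⟨t, ht0, ht⟩ := exists_sq_ne h5 (Q y / (Q e * G * G))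
    have htC : t * C ≠ 0 := mul_ne_zero ht0 hC0
    have htCG : t * C * G ≠ 0 := mul_ne_zero htC hG
    have hk : eich hQ hqz (hse t) ∈ K := hz t hqz (hse t)
    have hxy' : Has hQ K x y := has_stab hQ hn hK (Or.inr ⟨hx, hy⟩)
    have h1 := hxy'.conj hQ hk
    rw [eich_apply, eich_apply, hxz, polar_smul_right', polar_smul_right', QuadraticMap.polar_comm (⇑Q) x e,
      ← hC, QuadraticMap.polar_comm (⇑Q) y e, ← hP, QuadraticMap.polar_comm (⇑Q) y z, hzy, apply_smul] at h1
    simp only [mul_zero, sub_zero, neg_zero, zero_smul, add_zero] at h1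
    obtain ⟨z1, hz1⟩ : ∃ z1, z1 = z + (1 / (t * C)) • x := ⟨_, rfl⟩
    have hcomb : ∀ (a : F) (v : V), a ≠ 0 → x + a • v = a • (v + (1 / a) • x) := fun a v ha => by
      rw [smul_add, smul_smul, mul_one_div_cancel ha, one_smul, add_comm]
    rw [hcomb _ _ htC, ← hz1] at h1
    have h1' := h1.smul_left hQ htC
    have hk2 := conj ((1 / (t * C * G)) • y) (U.smul_mem _ hy)
      (by rw [polar_smul_right', hxy, mul_zero]) (t * t * C * G)
    rw [polar_smul_right', polar_smul_right', apply_smul, ← hGd, ← hP,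
      show 1 / (t * C * G) * G = 1 / (t * C) by field_simp, ← hz1] at hk2
    have h4 : Has hQ K z1 ((t * C * (Q y / G - t * t * Q e * G)) • z + (t * P - Q y / G) • ((t * C) • z1)) := by
      have := h1'.add hQ hk2 (by
        simp only [hz1, polar_add_left', polar_smul_left', polar_smul_right', polar_add_right', hzz, hzy, hze, hxz, hxy,
          QuadraticMap.polar_comm (⇑Q) x e, ← hC]
        field_simp
        ring)
      convert this using 1
      rw [hz1]
      match_scalars <;> field_simp <;> ring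
    have hzz1 : polar Q z1 ((t * C * (Q y / G - t * t * Q e * G)) • z + (t * P - Q y / G) • ((t * C) • z1)) = 0 := by
      have a1 : polar Q z1 z = 0 := by
        rw [hz1, polar_add_left', polar_smul_left', hzz, hxz]; ring
      have a2 : polar Q z1 z1 = 0 := by
        rw [polar_self', hz1, apply_add, apply_smul, hqz, hqx, polar_smul_right', hzx]; ring
      rw [polar_add_right', polar_smul_right', polar_smul_right', polar_smul_right', a1, a2]
      ring
    have h6 := h4.add hQ (has_self hQ (K := K) z1 (-((t * P - Q y / G) * (t * C)))) hzz1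
    rw [show (t * C * (Q y / G - t * t * Q e * G)) • z + (t * P - Q y / G) • ((t * C) • z1) +
      (-((t * P - Q y / G) * (t * C))) • z1 = (t * C * (Q y / G - t * t * Q e * G)) • z by module] at h6
    subst hz1 hzd
    refine to_seed hQ hn hW hK hw hu hx hx0 (mul_ne_zero (mul_ne_zero htC fun h0 => ht ?_)
      (one_div_ne_zero htC)) hqz hqx hux (to_long hQ hqz hqx hzx h6)
    rw [eq_div_iff (mul_ne_zero (mul_ne_zero hqe hG) hG)]
    field_simp at h0
    linear_combination -h0

omit hK hn in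
/-- A vector of `U` with a singular vector beside it. -/
theorem exists_beside (h3 : 3 ≤ Module.finrank F (perp Q W)) {p m u : V} (hp : p ∈ perp Q W)
    (hm : m ∈ perp Q W) (hqp : Q p = 0) (hp0 : p ≠ 0) (hpm : polar Q p m = 0) (hu : u ∈ perp Q W)
    (hsq : IsSquare (Q u * Q m)) (hqm : Q m ≠ 0) :
    ∃ x ∈ perp Q W, x ≠ 0 ∧ Q x = 0 ∧ polar Q u x = 0 := by
  by_cases hu0 : u = 0
  · exact ⟨p, hp, hp0, hqp, by rw [hu0, QuadraticMap.polar_zero_left]⟩
  by_cases hqu : Q u = 0
  · exact ⟨u, hu, hu0, hqu, by rw [polar_self', hqu, mul_zero]⟩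
  obtain ⟨r, hr⟩ := hsq
  obtain ⟨v, hvU, hpv, hl⟩ : ∃ v ∈ perp Q W, polar Q p v = 0 ∧ Q v = Q u :=
    ⟨(r / Q m) • m, Submodule.smul_mem _ _ hm, by rw [polar_smul_right', hpm, mul_zero],
      by rw [apply_smul]; field_simp; linear_combination -hr⟩
  obtain ⟨s, hs, hne⟩ : ∃ s : F, s * s = 1 ∧ Q (v + (-s) • u) ≠ 0 := by
    by_contra! hc
    have a := hc 1 (one_mul 1)
    have b := hc (-1) (by ring)
    rw [apply_add, apply_smul, polar_smul_right', hl] at a b
    have : (2 : F) * 2 * Q u = 0 := by linear_combination a + b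
    simp [h2, hqu] at this
  set R := Quad.refl hne with hR
  refine ⟨(R : V ≃ₗ[F] V) p, ?_, fun e => hp0 ((R : V ≃ₗ[F] V).map_eq_zero_iff.1 e), by rw [OQ.map_apply, hqp], ?_⟩
  · rw [hR, refl_apply]
    exact Submodule.sub_mem _ hp (Submodule.smul_mem _ _ (Submodule.add_mem _ hvU (Submodule.smul_mem _ _ hu)))
  · have hq' : Q (v + (-s) • u) = 2 * Q u - s * polar Q v u := by
      rw [apply_add, apply_smul, polar_smul_right', hl]
      linear_combination Q u * hs
    have hRv : (R : V ≃ₗ[F] V) v = s • u := by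
      have hco : (Q (v + (-s) • u))⁻¹ * polar Q v (v + (-s) • u) = 1 := by
        rw [polar_add_right', polar_smul_right', polar_self', hl]
        field_simp
        linear_combination -hq'
      rw [hR, refl_apply, hco]
      module
    have e := OQ.map_polar R v p
    rw [hRv, polar_smul_left', QuadraticMap.polar_comm (⇑Q) v p, hpv] at e
    exact (mul_eq_zero.1 e).resolve_left fun h0 => by rw [h0, mul_zero] at hs; exact zero_ne_one hs

/-- A moved vector with an anisotropic plane beside it is replaced by one of the other kind. -/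
theorem bad_seed (h5 : 5 ≤ Nat.card F) (hW2 : Module.finrank F W = 2) (h3 : 3 ≤ Module.finrank F (perp Q W))
    {w u e : V} (hw : w ∈ W) (hw0 : w ≠ 0) (hu : u ∈ perp Q W) (hqz : Q (w + u) = 0)
    (hbad : ∀ x ∈ perp Q W, Q x = 0 → polar Q u x = 0 → x = 0) (hze : polar Q (w + u) e = 0) (hqe : Q e ≠ 0)
    (hz : ∀ t : F, Has hQ K (w + u) (t • e)) :
    ∃ x ∈ perp Q W, x ≠ 0 ∧ Q x = 0 ∧ ∃ b ∈ W, b ≠ 0 ∧ Has hQ K x b := by
  have hU := hW.perp hQ
  set U := perp Q W
  have hUV : ∀ {v}, v ∈ U → v ∈ perp Q W := fun h => h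
  obtain ⟨p, hp, hp0, hqp⟩ := hU.exists_singular h3
  obtain ⟨m, hm, hpm, hqm⟩ := exists_aniso_beside hU h3 hp hqp hp0
  have hu0 : u ≠ 0 := fun h => hp0 (hbad p hp hqp (by rw [h, QuadraticMap.polar_zero_left]))
  have hqu : Q u ≠ 0 := fun h => hu0 (hbad u hu h (by rw [polar_self', h, mul_zero]))
  have hwu : Q w + Q u = 0 := by rw [← hqz, apply_add, mem_perp.1 hu w hw, add_zero]
  have hqw : Q w ≠ 0 := fun h => hqu (by rw [h, zero_add] at hwu; exact hwu)
  have hzz : polar Q (w + u) (w + u) = 0 := by rw [polar_self', hqz, mul_zero]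
  -- make the vector orthogonal to `u`
  obtain ⟨c₀, hc₀, d₀, hd₀, ecd⟩ := hW.exists_add hQ e
  set r₀ := polar Q u d₀ / (2 * Q u) with hr₀
  obtain ⟨c, hc⟩ : ∃ c, c = c₀ + (-r₀) • w := ⟨_, rfl⟩
  obtain ⟨d, hd⟩ : ∃ d, d = d₀ + (-r₀) • u := ⟨_, rfl⟩
  have hcW : c ∈ W := hc ▸ W.add_mem hc₀ (W.smul_mem _ hw)
  have hdU : d ∈ U := hd ▸ U.add_mem hd₀ (U.smul_mem _ hu)
  obtain ⟨e', he'⟩ : ∃ e', e' = c + d := ⟨_, rfl⟩
  have he'e : e' = e + (-r₀) • (w + u) := by rw [he', hc, hd, ← ecd]; module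
  have hz' : ∀ t : F, Has hQ K (w + u) (t • e') := fun t => by
    have := (hz t).add hQ (has_self hQ (K := K) (w + u) (-(t * r₀))) (by rw [polar_smul_right', hze, mul_zero])
    rwa [show t • e + -(t * r₀) • (w + u) = t • e' by rw [he'e]; module] at this
  have hze' : polar Q (w + u) e' = 0 := by
    rw [he'e, polar_add_right', polar_smul_right', hze, hzz]; ring
  have hqe' : Q e' ≠ 0 := by
    rwa [he'e, apply_add, apply_smul, hqz, polar_smul_right', QuadraticMap.polar_comm (⇑Q) e, hze, mul_zero,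
      mul_zero, add_zero, add_zero]
  have hud : polar Q u d = 0 := by
    rw [hd, polar_add_right', polar_smul_right', polar_self', hr₀]; field_simp; ring
  have hwc : polar Q w c = 0 := by
    rw [he', polar_add_left', polar_add_right', polar_add_right', mem_perp.1 hdU w hw, perp_left hu hcW, hud,
      add_zero, add_zero, add_zero] at hze'
    exact hze'
  -- a second vector of `W`
  obtain ⟨b, hb, hwb, hqb⟩ : ∃ b ∈ W, polar Q w b = 0 ∧ Q b ≠ 0 := by
    obtain ⟨y, hy, hyw⟩ : ∃ y ∈ W, y ∉ Submodule.span F {w} := by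
      by_contra! h
      have := Submodule.finrank_mono (show W ≤ Submodule.span F {w} from h)
      rw [hW2, finrank_span_singleton hw0] at this
      omega
    set b := y + (-(polar Q w y / (2 * Q w))) • w with hb
    have hwb : polar Q w b = 0 := by rw [hb, polar_add_right', polar_smul_right', polar_self']; field_simp; ring
    refine ⟨b, W.add_mem hy (W.smul_mem _ hw), hwb, fun h => ?_⟩
    have hbw : b ∉ Submodule.span F {w} := fun h' => hyw (by
      have h'' := Submodule.add_mem _ h'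
        (Submodule.smul_mem _ (polar Q w y / (2 * Q w)) (Submodule.mem_span_singleton_self w))
      rwa [hb, show y + (-(polar Q w y / (2 * Q w))) • w + (polar Q w y / (2 * Q w)) • w = y by module] at h'')
    have hbW : b ∈ W := W.add_mem hy (W.smul_mem _ hw)
    exact hbw (by
      rw [plane_zero hW hW2 hw hbW hbW hw0 hbw hwb (by rw [polar_self', h, mul_zero])]
      exact Submodule.zero_mem _)
  have hbw0 : b ∉ Submodule.span F {w} := fun h => by
    obtain ⟨l, rfl⟩ := Submodule.mem_span_singleton.1 h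
    rw [polar_smul_right', polar_self'] at hwb
    rcases mul_eq_zero.1 hwb with rfl | h'
    · exact hqb (by rw [zero_smul, QuadraticMap.map_zero])
    · exact mul_ne_zero h2 hqw h'
  obtain ⟨s, hs0, hs⟩ := exists_sq_ne h5 (-Q b / Q w)
  set N := Q b + s * s * Q w with hN
  have hN0 : N ≠ 0 := fun h => hs (by rw [eq_div_iff hqw]; linear_combination h)
  set a := 1 - 2 * (s * s * Q w) / N with ha
  set β := -(2 * (s * Q w)) / N with hβ
  have hβ0 : β ≠ 0 := div_ne_zero (neg_ne_zero.2 (mul_ne_zero h2 (mul_ne_zero hs0 hqw))) hN0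
  obtain ⟨w2, hw2⟩ : ∃ w2, w2 = a • w + β • b := ⟨_, rfl⟩
  have hw2W : w2 ∈ W := hw2 ▸ W.add_mem (W.smul_mem _ hw) (W.smul_mem _ hb)
  have hrel : a * a * Q w + β * β * Q b = Q w := by rw [ha, hβ]; field_simp; rw [hN]; ring
  have hqw2 : Q w2 = Q w := by
    rw [hw2, apply_add, apply_smul, apply_smul, polar_smul_left', polar_smul_right', hwb]
    linear_combination hrel
  have hw2w : polar Q w2 w = a * (2 * Q w) := by
    rw [hw2, polar_add_left', polar_smul_left', polar_smul_left', polar_self', QuadraticMap.polar_comm (⇑Q) b w, hwb]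
    ring
  have hw2n : w2 ∉ Submodule.span F {w} := fun h => hbw0 (by
    have h' := Submodule.sub_mem _ h (Submodule.smul_mem _ a (Submodule.mem_span_singleton_self w))
    rw [hw2, add_sub_cancel_left] at h'
    exact (Submodule.smul_mem_iff _ hβ0).1 h')
  have hk : 1 - a * a ≠ 0 := fun h => mul_ne_zero (mul_ne_zero hβ0 hβ0) hqb (by
    linear_combination hrel + Q w * h)
  -- its partner in `U`
  have hsn : ∀ v ∈ U, Q v ≠ 0 → ∀ c : F, c ≠ 0 → ∃ v' ∈ U, Q v' = c ∧ polar Q v v' = 0 := by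
    intro v hv hqv c hc
    obtain ⟨v', h1, h2'⟩ := exists_apply_eq_perp_nondeg hU.comp (P := Submodule.span F {(⟨v, hv⟩ : U)})
      (fun y hy h => by
        obtain ⟨l, rfl⟩ := Submodule.mem_span_singleton.1 hy
        have := h _ (Submodule.mem_span_singleton_self _)
        rw [polar_smul_left', polar_comp, polar_self'] at this
        rcases mul_eq_zero.1 this with rfl | h'
        · rw [zero_smul]
        · exact absurd h' (mul_ne_zero h2 hqv))
      (by rw [finrank_span_singleton fun e => hqv (by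
        rw [show v = 0 from congrArg Subtype.val e, QuadraticMap.map_zero])]; exact h3) hc
    have := h2' _ (Submodule.mem_span_singleton_self _)
    rw [polar_comp] at this
    exact ⟨v', v'.2, h1, this⟩
  obtain ⟨v, hv, hqv, huv, hCne⟩ : ∃ v ∈ U, Q v = Q u * (1 - a * a) ∧ polar Q u v = 0 ∧
      polar Q w2 c + polar Q v d ≠ 0 := by
    obtain ⟨v, hv, hqv, huv⟩ := hsn u hu hqu _ (mul_ne_zero hqu hk)
    by_cases hC1 : polar Q w2 c + polar Q v d = 0
    swap
    · exact ⟨v, hv, hqv, huv, hC1⟩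
    by_cases hC2 : polar Q w2 c + polar Q (-v) d = 0
    swap
    · exact ⟨-v, U.neg_mem hv, by rw [QuadraticMap.map_neg, hqv],
        by rw [QuadraticMap.polar_neg_right, huv, neg_zero], hC2⟩
    rw [QuadraticMap.polar_neg_left] at hC2
    have hvd : polar Q v d = 0 := (mul_eq_zero.1 (show (2 : F) * polar Q v d = 0 by
      linear_combination hC1 - hC2)).resolve_left h2
    have hw2c : polar Q w2 c = 0 := by linear_combination hC1 - hvd
    have hd0 : d ≠ 0 := fun h => hqe' (by
      rw [he', h, add_zero, plane_zero hW hW2 hw hw2W hcW hw0 hw2n hwc hw2c, QuadraticMap.map_zero])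
    have hqd : Q d ≠ 0 := fun h => hd0 (hbad d hdU h hud)
    have hqv0 : Q v ≠ 0 := by rw [hqv]; exact mul_ne_zero hqu hk
    have hr : Q (d + v) ≠ 0 := fun h => by
      have h0 := hbad _ (U.add_mem hdU hv) h (by rw [polar_add_right', hud, huv, add_zero])
      rw [eq_neg_of_add_eq_zero_right h0, QuadraticMap.polar_neg_left, polar_self', neg_eq_zero] at hvd
      exact mul_ne_zero h2 hqd hvd
    have hrd : polar Q (d + v) d = 2 * Q d := by rw [polar_add_left', polar_self', hvd, add_zero]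
    have hvr : polar Q v (d + v) = 2 * Q v := by rw [polar_add_right', polar_self', hvd, zero_add]
    refine ⟨(Quad.refl hr : V ≃ₗ[F] V) v, ?_, by rw [OQ.map_apply, hqv], ?_, ?_⟩
    · rw [refl_apply]; exact U.sub_mem hv (U.smul_mem _ (U.add_mem hdU hv))
    · have hur : polar Q u (d + v) = 0 := by rw [polar_add_right', hud, huv, add_zero]
      rw [refl_apply, QuadraticMap.polar_sub_right, polar_smul_right', huv, hur]; ring
    · rw [refl_apply, QuadraticMap.polar_sub_left, polar_smul_left', hw2c, hvd, hrd, hvr]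
      simp [hr, hqd, hqv0, h2]
  obtain ⟨u2, hu2⟩ : ∃ u2, u2 = a • u + v := ⟨_, rfl⟩
  have hu2U : u2 ∈ U := hu2 ▸ U.add_mem (U.smul_mem _ hu) hv
  have hqu2 : Q u2 = Q u := by
    rw [hu2, apply_add, apply_smul, polar_smul_left', huv, hqv]; ring
  have hu2u : polar Q u2 u = a * (2 * Q u) := by
    rw [hu2, polar_add_left', polar_smul_left', polar_self', QuadraticMap.polar_comm (⇑Q) v u, huv, add_zero]
  -- the element exchanging the two pairs
  have h2a : 2 - 2 * a ≠ 0 := fun h => hk (by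
    have : a = 1 := mul_left_cancel₀ h2 (by linear_combination -h)
    rw [this]; ring)
  set r1 := w + (-1 : F) • w2 with hr1
  set r2 := u + (-1 : F) • u2 with hr2
  have hqr1 : Q r1 = (2 - 2 * a) * Q w := by
    rw [hr1, apply_add, apply_smul, hqw2, polar_smul_right', QuadraticMap.polar_comm (⇑Q) w w2, hw2w]; ring
  have hqr2 : Q r2 = (2 - 2 * a) * Q u := by
    rw [hr2, apply_add, apply_smul, hqu2, polar_smul_right', QuadraticMap.polar_comm (⇑Q) u u2, hu2u]; ring
  have hr10 : Q r1 ≠ 0 := by rw [hqr1]; exact mul_ne_zero h2a hqw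
  have hr20 : Q r2 ≠ 0 := by rw [hqr2]; exact mul_ne_zero h2a hqu
  have hr1W : r1 ∈ W := W.add_mem hw (W.smul_mem _ hw2W)
  have hr2U : r2 ∈ U := U.add_mem hu (U.smul_mem _ hu2U)
  obtain ⟨s1, hs1, hqs1, hs1u⟩ := hsn u2 hu2U (by rw [hqu2]; exact hqu) _ hr10
  obtain ⟨s2, hs2, hqs2, hs2u⟩ := hsn u2 hu2U (by rw [hqu2]; exact hqu) _ hr20
  have hs10 : Q s1 ≠ 0 := by rw [hqs1]; exact hr10
  have hs20 : Q s2 ≠ 0 := by rw [hqs2]; exact hr20
  have stW : ∀ (r : V) (hr : Q r ≠ 0), r ∈ W ∨ r ∈ U → Quad.refl hr ∈ oStab Q W := by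
    intro r hr hor
    refine mem_oStab_of_maps fun y hy => ?_
    rw [refl_apply]
    rcases hor with h | h
    · exact W.sub_mem hy (W.smul_mem _ h)
    · rw [mem_perp.1 h y hy, mul_zero, zero_smul, sub_zero]; exact hy
  set τ : OQ Q := (Quad.refl hs10 * Quad.refl hr10) * (Quad.refl hs20 * Quad.refl hr20) with hτ
  have hτK : τ ∈ K := hK ⟨mul_mem (mul_mem (stW _ _ (Or.inr hs1)) (stW _ _ (Or.inl hr1W)))
      (mul_mem (stW _ _ (Or.inr hs2)) (stW _ _ (Or.inr hr2U))),
    mul_mem (refl_mul_refl_mem hQ hn hs10 hr10 hqs1) (refl_mul_refl_mem hQ hn hs20 hr20 hqs2)⟩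
  have hτa : ∀ y, (τ : V ≃ₗ[F] V) y = (Quad.refl hs10 : V ≃ₗ[F] V) ((Quad.refl hr10 : V ≃ₗ[F] V)
      ((Quad.refl hs20 : V ≃ₗ[F] V) ((Quad.refl hr20 : V ≃ₗ[F] V) y))) := fun y => rfl
  have fixW : ∀ (r : V) (hr : Q r ≠ 0), r ∈ U → ∀ y ∈ W, (Quad.refl hr : V ≃ₗ[F] V) y = y := fun r hr h y hy => by
    rw [refl_apply, mem_perp.1 h y hy, mul_zero, zero_smul, sub_zero]
  have mv : ∀ (y y2 : V) (q : F) (hr : Q (y + (-1 : F) • y2) ≠ 0), Q y = q → polar Q y2 y = a * (2 * q) →
      Q (y + (-1 : F) • y2) = (2 - 2 * a) * q → (Quad.refl hr : V ≃ₗ[F] V) y = y2 := by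
    intro y y2 q hr h1 h3' h4
    have hco : (Q (y + (-1 : F) • y2))⁻¹ * polar Q y (y + (-1 : F) • y2) = 1 := by
      rw [polar_add_right', polar_smul_right', polar_self', h1, QuadraticMap.polar_comm (⇑Q) y y2, h3']
      field_simp
      linear_combination -h4
    rw [refl_apply, hco]
    module
  have hτw : (τ : V ≃ₗ[F] V) w = w2 := by
    rw [hτa, fixW _ hr20 hr2U w hw, fixW _ hs20 hs2 w hw, mv w w2 (Q w) hr10 rfl hw2w hqr1,
      fixW _ hs10 hs1 w2 hw2W]
  have hτu : (τ : V ≃ₗ[F] V) u = u2 := by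
    rw [hτa, mv u u2 (Q u) hr20 rfl hu2u hqr2, refl_apply hs20, hs2u, mul_zero, zero_smul, sub_zero,
      refl_apply hr10, perp_left hu2U hr1W, mul_zero, zero_smul, sub_zero,
      refl_apply hs10, hs1u, mul_zero, zero_smul, sub_zero]
  -- choose the parameter
  obtain ⟨yy, hyy⟩ := exists_nonsq_add h2 hk
  set l := yy - a with hl
  obtain ⟨P, hP⟩ : ∃ P, P = polar Q (w2 + u2) e' := ⟨_, rfl⟩
  have hPval : P = polar Q w2 c + polar Q v d := by
    rw [hP, he', hu2, polar_add_left', polar_add_right', polar_add_right', polar_add_left', polar_add_left',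
      mem_perp.1 hdU w2 hw2W, perp_left (U.smul_mem a hu) hcW, perp_left hv hcW, polar_smul_left', hud]
    ring
  have hP0 : P ≠ 0 := by rw [hPval]; exact hCne
  obtain ⟨z2, hz2⟩ : ∃ z2, z2 = w2 + u2 := ⟨_, rfl⟩
  have hqz2 : Q z2 = 0 := by rw [hz2, apply_add, hqw2, hqu2, mem_perp.1 hu2U w2 hw2W, add_zero, hwu]
  have hz2z : polar Q z2 (w + u) = 0 := by
    rw [hz2, polar_add_left', polar_add_right', polar_add_right', hw2w, hu2u, mem_perp.1 hu w2 hw2W,
      perp_left hu2U hw]
    linear_combination (2 * a) * hwu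
  have hse' : polar Q (w + u) ((l / P) • e') = 0 := by rw [polar_smul_right', hze', mul_zero]
  have hhK : eich hQ hqz hse' ∈ K := hz' _ hqz hse'
  set h := eich hQ hqz hse' with hh
  have hhz : (h : V ≃ₗ[F] V) z2 = (w2 + l • w) + (u2 + l • u) := by
    rw [hh, eich_apply, hz2z, polar_smul_right', hz2, ← hP, mul_zero, sub_zero, div_mul_cancel₀ _ hP0, neg_zero,
      zero_smul, add_zero]
    module
  set e2 := (h : V ≃ₗ[F] V) ((τ : V ≃ₗ[F] V) e') with he2
  have hgrp : ∀ t : F, Has hQ K ((w2 + l • w) + (u2 + l • u)) (t • e2) := fun t => by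
    have h1 := ((hz' t).conj hQ hτK).conj hQ hhK
    rwa [map_smul, map_smul, map_add, hτw, hτu, ← hz2, hhz, ← he2] at h1
  have hqu' : Q (u2 + l • u) = Q u * (yy * yy + (1 - a * a)) := by
    rw [apply_add, apply_smul, hqu2, polar_smul_right', hu2u, hl]; ring
  have hns : ¬ IsSquare (Q u * Q m) := fun hs' => by
    obtain ⟨x, hx, hx0, hqx, hux⟩ := exists_beside hQ hW h2 h3 hp hm hqp hp0 hpm hu hs' hqm
    exact hx0 (hbad x hx hqx hux)
  obtain ⟨x, hx, hx0, hqx, hux⟩ := exists_beside hQ hW h2 h3 hp hm hqp hp0 hpm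
    (U.add_mem hu2U (U.smul_mem l hu))
    (by
      rw [hqu', show Q u * (yy * yy + (1 - a * a)) * Q m = (Q u * Q m) * (yy * yy + (1 - a * a)) by ring]
      exact nonsq_mul h2 hns hyy) hqm
  have hwn0 : w2 + l • w ≠ 0 := fun h => hw2n (by
    rw [eq_neg_of_add_eq_zero_left h]
    exact Submodule.neg_mem _ (Submodule.smul_mem _ _ (Submodule.mem_span_singleton_self w)))
  have hwnW : w2 + l • w ∈ W := W.add_mem hw2W (W.smul_mem _ hw)
  obtain ⟨x', hx', hx'0, hqx', hH⟩ := good_seed hQ hn hW hK h2 h5 hW2 h3 hwnW hwn0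
    (U.add_mem hu2U (U.smul_mem l hu)) (by rw [← hhz, OQ.map_apply, hqz2]) hx hx0 hqx hux
    (by rw [← hhz, he2, OQ.map_polar, hz2, ← hτw, ← hτu, ← map_add, OQ.map_polar, hze'])
    (by rw [he2, OQ.map_apply, OQ.map_apply]; exact hqe') hgrp
  exact ⟨x', hx', hx'0, hqx', _, W.neg_mem hwnW, neg_ne_zero.2 hwn0, hH⟩

/-- One root element is enough. -/
theorem le_of_seed (h5 : 5 ≤ Nat.card F) (hW2 : Module.finrank F W = 2) (hU3 : Module.finrank F (perp Q W) = 3)
    {p₀ : V} (hp₀ : p₀ ∈ perp Q W) (hp0 : p₀ ≠ 0) (hq₀ : Q p₀ = 0) {b : V} (hb : b ∈ W) (hb0 : b ≠ 0)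
    (hT : Has hQ K p₀ b) : eichGroup hQ ≤ K := by
  have hU := hW.perp hQ
  set U := perp Q W
  have refl_stab : ∀ (v r : V) (hv : Q v ≠ 0) (hr : Q r ≠ 0), Q v = Q r → (v ∈ W ∨ v ∈ U) → r ∈ U →
      Quad.refl hv * Quad.refl hr ∈ K := by
    intro v r hv hr he hvm hrU
    refine hK ⟨mul_mem ?_ ?_, refl_mul_refl_mem hQ hn hv hr he⟩
    all_goals refine mem_oStab_of_maps fun y hy => ?_
    all_goals rw [refl_apply]
    · rcases hvm with h | h
      · exact W.sub_mem hy (W.smul_mem _ h)
      · rw [mem_perp.1 h y hy, mul_zero, zero_smul, sub_zero]; exact hy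
    · rw [mem_perp.1 hrU y hy, mul_zero, zero_smul, sub_zero]; exact hy
  obtain ⟨f, hf, hqf, hpf⟩ := hU.exists_pair hp₀ hq₀ hp0
  -- all multiples
  have sq : ∀ (k : F) (b : V), b ∈ W → Has hQ K p₀ b → Has hQ K p₀ ((k * k) • b) := by
    intro k b hb hT
    rcases eq_or_ne k 0 with rfl | hk
    · intro h1 h2
      simp_rw [mul_zero, zero_smul]
      rw [eich_zero_right hQ h1]
      exact K.one_mem
    set v := p₀ + (-1 : F) • f with hv
    set r := k⁻¹ • p₀ + (-k) • f with hr
    have hqv : Q v = -1 := by rw [hv, apply_add, apply_smul, hq₀, hqf, polar_smul_right', hpf]; ring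
    have hqr : Q r = -1 := by
      rw [hr, apply_add, apply_smul, apply_smul, hq₀, hqf, polar_smul_left', polar_smul_right', hpf]; field_simp; ring
    have hvU : v ∈ U := U.add_mem hp₀ (U.smul_mem _ hf)
    have hrU : r ∈ U := U.add_mem (U.smul_mem _ hp₀) (U.smul_mem _ hf)
    have hv0 : Q v ≠ 0 := by rw [hqv]; simp
    have hr0 : Q r ≠ 0 := by rw [hqr]; simp
    have h := refl_stab v r hv0 hr0 (by rw [hqv, hqr]) (Or.inr hvU) hrU
    have happ : ∀ y, ((Quad.refl hv0 * Quad.refl hr0 : OQ Q) : V ≃ₗ[F] V) y =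
        (Quad.refl hv0 : V ≃ₗ[F] V) ((Quad.refl hr0 : V ≃ₗ[F] V) y) := fun y => rfl
    have e1 : (Quad.refl hr0 : V ≃ₗ[F] V) p₀ = (k * k) • f := by
      rw [refl_apply, hqr, hr, polar_add_right', polar_smul_right', polar_smul_right', polar_self', hq₀, hpf]
      match_scalars <;> field_simp <;> ring
    have e2 : (Quad.refl hv0 : V ≃ₗ[F] V) f = p₀ := by
      rw [refl_apply, hqv, hv, polar_add_right', polar_smul_right', polar_self', hqf,
        QuadraticMap.polar_comm (⇑Q) f p₀, hpf]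
      match_scalars <;> field_simp <;> ring
    have h1 := hT.conj hQ h
    rw [happ, happ, e1, map_smul, e2, refl_apply hr0, mem_perp.1 hrU b hb, mul_zero, zero_smul, sub_zero,
      refl_apply, mem_perp.1 hvU b hb, mul_zero, zero_smul, sub_zero] at h1
    exact h1.smul_left hQ (mul_ne_zero hk hk)
  have all_smul : ∀ (c : F) (b : V), b ∈ W → Has hQ K p₀ b → Has hQ K p₀ (c • b) := by
    intro c b hb hT
    obtain ⟨x, y, hxy⟩ := exists_sum_two_squares h2 (one_ne_zero (α := F)) one_ne_zero c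
    have := (sq x b hb hT).add hQ (sq y b hb hT) (by rw [polar_smul_right', perp_left hp₀ hb, mul_zero])
    rwa [← add_smul, show x * x + y * y = c by linear_combination hxy] at this
  have full : ∀ b ∈ W, Has hQ K p₀ b → ∀ p ∈ U, Q p = 0 → Has hQ K p b := by
    intro b hb hT p hp hqp
    by_cases hpz : p = 0
    · subst hpz
      intro _ _
      rw [eich_zero_left]
      exact K.one_mem
    by_cases hdep : p ∈ Submodule.span F {p₀}
    · obtain ⟨c, rfl⟩ := Submodule.mem_span_singleton.1 hdep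
      have hc : c ≠ 0 := fun e => hpz (by rw [e, zero_smul])
      have h : Has hQ K (c⁻¹ • c • p₀) (c • b) := by rw [inv_smul_smul₀ hc]; exact all_smul c b hb hT
      have h' := h.smul_left hQ (inv_ne_zero hc)
      rwa [inv_smul_smul₀ hc] at h'
    set β := polar Q p₀ p with hβ
    have hβ0 : β ≠ 0 := fun h => hdep (mem_span_of_singular hQ hU hU3 hp₀ hp hq₀ hqp h hp0)
    obtain ⟨f', hf'⟩ : ∃ f', f' = β⁻¹ • p := ⟨_, rfl⟩
    have hpf' : polar Q p₀ f' = 1 := by rw [hf', polar_smul_right', ← hβ, inv_mul_cancel₀ hβ0]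
    have hqf' : Q f' = 0 := by rw [hf', apply_smul, hqp, mul_zero]
    obtain ⟨y, hy, hyP⟩ : ∃ y ∈ U, y ∉ Submodule.span F (Set.range ![p₀, f']) := by
      by_contra! h
      have h1 := Submodule.finrank_mono (show U ≤ Submodule.span F (Set.range ![p₀, f']) from h)
      have h2 : Module.finrank F (Submodule.span F (Set.range ![p₀, f'])) ≤ Fintype.card (Fin 2) :=
        finrank_range_le_card (R := F) ![p₀, f']
      rw [Fintype.card_fin, hU3] at *
      omega
    obtain ⟨m, hm⟩ : ∃ m, m = y + (-polar Q y f') • p₀ + (-polar Q y p₀) • f' := ⟨_, rfl⟩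
    have hmU : m ∈ U := hm ▸ U.add_mem (U.add_mem hy (U.smul_mem _ hp₀)) (U.smul_mem _ (hf' ▸ U.smul_mem _ hp))
    have hmp : polar Q p₀ m = 0 := by
      rw [hm, polar_add_right', polar_add_right', polar_smul_right', polar_smul_right', polar_self', hq₀, hpf',
        QuadraticMap.polar_comm (⇑Q) y p₀]
      ring
    have hmf : polar Q f' m = 0 := by
      rw [hm, polar_add_right', polar_add_right', polar_smul_right', polar_smul_right', polar_self', hqf',
        QuadraticMap.polar_comm (⇑Q) f' p₀, hpf', QuadraticMap.polar_comm (⇑Q) y f']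
      ring
    have hm0 : m ≠ 0 := fun e => hyP (by
      have e' : y = polar Q y f' • p₀ + polar Q y p₀ • f' := by
        simp only [hm, neg_smul] at e
        linear_combination (norm := module) e
      rw [e']
      exact add_mem (Submodule.smul_mem _ _ (Submodule.subset_span ⟨0, rfl⟩))
        (Submodule.smul_mem _ _ (Submodule.subset_span ⟨1, rfl⟩)))
    have hqm : Q m ≠ 0 := fun h => hm0 (by
      obtain ⟨l, hl⟩ := Submodule.mem_span_singleton.1 (mem_span_of_singular hQ hU hU3 hp₀ hmU hq₀ h hmp hp0)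
      have := hmf
      rw [← hl, polar_smul_right', QuadraticMap.polar_comm (⇑Q) f' p₀, hpf', mul_one] at this
      rw [← hl, this, zero_smul])
    obtain ⟨z, hz⟩ : ∃ z, z = (-(Q m))⁻¹ • p₀ + f' + (-(Q m))⁻¹ • m := ⟨_, rfl⟩
    have hqm' : -Q m ≠ 0 := neg_ne_zero.2 hqm
    have hzU : z ∈ U := hz ▸ U.add_mem (U.add_mem (U.smul_mem _ hp₀) (hf' ▸ U.smul_mem _ hp)) (U.smul_mem _ hmU)
    have hqz : Q z = 0 := by
      rw [hz, apply_add, apply_add, apply_smul, apply_smul, polar_add_left', polar_smul_left', polar_smul_left',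
        polar_smul_right', polar_smul_right', hpf', hmp, hmf, hq₀, hqf']
      field_simp; ring
    have hzp : polar Q z p₀ = 1 := by
      rw [hz, polar_add_left', polar_add_left', polar_smul_left', polar_smul_left', polar_self', hq₀,
        QuadraticMap.polar_comm (⇑Q) f' p₀, hpf', QuadraticMap.polar_comm (⇑Q) m p₀, hmp]
      ring
    have hzp' : polar Q z f' = (-(Q m))⁻¹ := by
      rw [hz, polar_add_left', polar_add_left', polar_smul_left', polar_smul_left', polar_self', hqf', hpf',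
        QuadraticMap.polar_comm (⇑Q) m f', hmf]
      ring
    obtain ⟨p', hp'⟩ : ∃ p', p' = (-Q m) • f' := ⟨_, rfl⟩
    have hza : polar Q z (p₀ + (-1 : F) • p') = 0 := by
      rw [polar_add_right', hp', polar_smul_right', polar_smul_right', hzp, hzp', mul_inv_cancel₀ hqm']; ring
    have haU : p₀ + (-1 : F) • p' ∈ U := U.add_mem hp₀ (U.smul_mem _ (hp' ▸ U.smul_mem _ (hf' ▸ U.smul_mem _ hp)))
    have hgK : eich hQ hqz hza ∈ K := has_stab hQ hn hK (Or.inr ⟨hzU, haU⟩) hqz hza
    have e1 : (eich hQ hqz hza : V ≃ₗ[F] V) p₀ = p' := by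
      rw [eich_apply, apply_add, apply_smul, polar_add_right', polar_smul_right', polar_self', hq₀,
        QuadraticMap.polar_comm (⇑Q) p₀ z, hzp, hp', apply_smul, hqf', polar_smul_right', hpf']
      match_scalars <;> ring
    set γ := -Q m * β⁻¹ with hγ
    have hγ0 : γ ≠ 0 := mul_ne_zero hqm' (inv_ne_zero hβ0)
    have h1 := (all_smul γ⁻¹ b hb hT).conj hQ hgK
    rw [e1, eich_apply hQ hqz hza (γ⁻¹ • b), polar_smul_left', polar_smul_left', mem_perp.1 hzU b hb,
      mem_perp.1 haU b hb] at h1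
    simp only [mul_zero, sub_zero, zero_smul, add_zero, neg_zero] at h1
    rw [hp', hf', smul_smul, ← hγ] at h1
    have h2' := h1.smul_left hQ hγ0
    rwa [smul_inv_smul₀ hγ0] at h2'
  let B : Submodule F V :=
    { carrier := {b | b ∈ W ∧ ∀ p ∈ U, Q p = 0 → Has hQ K p b}
      zero_mem' := ⟨W.zero_mem, fun p _ hqp _ _ => by rw [eich_zero_right hQ hqp]; exact K.one_mem⟩
      add_mem' := fun {a a'} ha ha' => ⟨W.add_mem ha.1 ha'.1, fun p hp hqp =>
        (ha.2 p hp hqp).add hQ (ha'.2 p hp hqp) (perp_left hp ha.1)⟩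
      smul_mem' := fun c a ha => ⟨W.smul_mem _ ha.1, fun p hp hqp => by
        rcases eq_or_ne c 0 with rfl | hc
        · intro _ _
          simp_rw [zero_smul]
          rw [eich_zero_right hQ hqp]
          exact K.one_mem
        · exact (ha.2 (c • p) (U.smul_mem _ hp) (by rw [apply_smul, hqp, mul_zero])).smul_left hQ hc⟩ }
  have hbB : b ∈ B := ⟨hb, full b hb hT⟩
  have hWB : W ≤ B := le_of_invariant_two hW hW2 (fun x hx => hx.1) hbB hb0 (fun _ => by omega)
    fun v hv hqv x hx => by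
      obtain ⟨r, hqr⟩ := exists_apply_eq hU.comp (show 2 ≤ Module.finrank F U by omega) hqv
      have hr0 : Q (r : V) ≠ 0 := by
        rw [show Q (r : V) = Q v from hqr]; exact hqv
      have hm := refl_stab v r hqv hr0 (show Q v = Q (r : V) from hqr.symm) (Or.inl hv) r.2
      have e : ((Quad.refl hqv * Quad.refl hr0 : OQ Q) : V ≃ₗ[F] V) x = x + (-((Q v)⁻¹ * polar Q x v)) • v := by
        show (Quad.refl hqv : V ≃ₗ[F] V) ((Quad.refl hr0 : V ≃ₗ[F] V) x) = _
        rw [refl_apply hr0, mem_perp.1 r.2 x hx.1, mul_zero, zero_smul, sub_zero, refl_apply, neg_smul, sub_eq_add_neg]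
      refine ⟨W.add_mem hx.1 (W.smul_mem _ hv), fun p hp hqp => ?_⟩
      set g : OQ Q := Quad.refl hqv * Quad.refl hr0 with hg
      obtain ⟨p', rfl⟩ := (g : V ≃ₗ[F] V).surjective p
      have hp' : p' ∈ U := by
        have hgs : g ∈ oStab Q W := mem_oStab_of_maps fun y hy => by
          show (Quad.refl hqv : V ≃ₗ[F] V) ((Quad.refl hr0 : V ≃ₗ[F] V) y) ∈ W
          rw [refl_apply hr0, mem_perp.1 r.2 y hy, mul_zero, zero_smul, sub_zero, refl_apply]
          exact W.sub_mem hy (W.smul_mem _ hv)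
        exact ((oStab_perp_le hQ hgs) p').2 hp
      have h := (hx.2 p' hp' (by rwa [OQ.map_apply] at hqp)).conj hQ hm
      rwa [e] at h
  exact le_of_full hQ hn hW hK (show 3 ≤ Module.finrank F U by omega) fun x hx => (hWB hx).2

omit hK in
/-- Stabilisers of nondegenerate planes. -/
theorem le_of_stab_plane_lt (h5 : 5 ≤ Nat.card F) (hW2 : Module.finrank F W = 2)
    (hU3 : Module.finrank F (perp Q W) = 3) {K : Subgroup (OQ Q)} (hlt : stab hQ W < K) (hKE : K ≤ eichGroup hQ) :
    eichGroup hQ ≤ K := by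
  obtain ⟨g, hgK, hg⟩ := SetLike.exists_of_lt hlt
  replace hg : g ∉ oStab Q W := fun h => hg ⟨h, hKE hgK⟩
  have hU := hW.perp hQ
  obtain ⟨p, hp, hqp, hgp⟩ : ∃ p ∈ perp Q W, Q p = 0 ∧ (g : V ≃ₗ[F] V) p ∉ perp Q W := by
    by_contra! hc
    refine hg ?_
    rw [← oStab_perp hQ W]
    exact mem_oStab_of_maps fun x hx => hU.le_of_singular (by omega)
      (P := (perp Q W).comap ((g : V ≃ₗ[F] V) : V →ₗ[F] V)) hc hx
  have hp0 : p ≠ 0 := fun e => hgp (by rw [e, map_zero]; exact Submodule.zero_mem _)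
  obtain ⟨m, hm, hpm, hqm⟩ := exists_aniso_beside hU (by omega) hp hqp hp0
  obtain ⟨w, hw, u, hu, ewu⟩ := hW.exists_add hQ ((g : V ≃ₗ[F] V) p)
  have hw0 : w ≠ 0 := fun e => hgp (by rw [← ewu, e, zero_add]; exact hu)
  have hqz : Q (w + u) = 0 := by rw [ewu, OQ.map_apply, hqp]
  have hze : polar Q (w + u) ((g : V ≃ₗ[F] V) m) = 0 := by rw [ewu, OQ.map_polar, hpm]
  have hqe : Q ((g : V ≃ₗ[F] V) m) ≠ 0 := by rw [OQ.map_apply]; exact hqm
  have hz : ∀ t : F, Has hQ K (w + u) (t • (g : V ≃ₗ[F] V) m) := fun t => by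
    rw [ewu, ← map_smul]
    exact (has_stab hQ hn hlt.le (Or.inr ⟨hp, Submodule.smul_mem _ t hm⟩)).conj hQ hgK
  obtain ⟨x, hx, hx0, hqx, b, hb, hb0, hT⟩ : ∃ x ∈ perp Q W, x ≠ 0 ∧ Q x = 0 ∧
      ∃ b ∈ W, b ≠ 0 ∧ Has hQ K x b := by
    by_cases hgood : ∃ x ∈ perp Q W, x ≠ 0 ∧ Q x = 0 ∧ polar Q u x = 0
    · obtain ⟨x, hx, hx0, hqx, hux⟩ := hgood
      obtain ⟨x', hx', hx'0, hqx', hH⟩ :=
        good_seed hQ hn hW hlt.le h2 h5 hW2 (by omega) hw hw0 hu hqz hx hx0 hqx hux hze hqe hz
      exact ⟨x', hx', hx'0, hqx', _, W.neg_mem hw, neg_ne_zero.2 hw0, hH⟩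
    · push Not at hgood
      exact bad_seed hQ hn hW hlt.le h2 h5 hW2 (by omega) hw hw0 hu hqz
        (fun x hx hqx hux => by_contra fun h => hgood x hx h hqx hux) hze hqe hz
  exact le_of_seed hQ hn hW hlt.le h2 h5 hW2 hU3 hx hx0 hqx hb hb0 hT

end CfsgLib.Geo.KleinSp.Plane
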