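import Cfsg.Agent.Lib.Geo.KleinSp.Basic
import Cfsg.Agent.Lib.Geo.KleinSp.Plane
import Cfsg.Agent.Lib.Geo.Asch.SpForms
import Mathlib.LinearAlgebra.Trace
import Mathlib.LinearAlgebra.Projection

/-!
# Skew elements with scalar square in `sp₄` and the planes attached to them

Their stabilisers are those of pairs of singular planes and of unitary structures.
-/

set_option autoImplicit false
set_option maxHeartbeats 1000000

namespace CfsgLib.Geo.KleinSp

open Matrix Cfsg.Geo
open CfsgLib.Classical CfsgLib.Classical.Quad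
open CfsgLib.Geo.Asch (adjS J_mul_adjS)
open QuadraticMap (polar polarBilin)

variable {F : Type*} [Field F]

local notation "II" => (Fin 2 ⊕ Fin 2)
local notation "I5" => (Unit ⊕ (Fin 2 ⊕ Fin 2))

theorem scalar_of_commute_kx {D : Matrix II II F} (h2 : (2 : F) ≠ 0) (hc : ∀ x : I5 → F, D * kx x = kx x * D) :
    D = D (.inl 0) (.inl 0) • 1 := by
  have q0 := hc (Pi.single (.inl ()) 1)
  have q1 := hc (Pi.single (.inr (.inl 0)) 1)
  have q2 := hc (Pi.single (.inr (.inr 0)) 1)
  have q3 := hc (Pi.single (.inr (.inl 1)) 1)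
  have q4 := hc (Pi.single (.inr (.inr 1)) 1)
  have hz : ∀ {t : F}, t = -t → t = 0 := fun {t} h =>
    (mul_eq_zero.1 (show (2 : F) * t = 0 by linear_combination h)).resolve_left h2
  have E := fun i j => And.intro (congrFun₂ q0 i j) (And.intro (congrFun₂ q1 i j)
    (And.intro (congrFun₂ q2 i j) (And.intro (congrFun₂ q3 i j) (congrFun₂ q4 i j))))
  simp [kx, Matrix.mul_apply, Fintype.sum_sum_type, Fin.sum_univ_two, Fin.forall_fin_two] at E
  ext i j
  rcases i with i | i <;> rcases j with j | j <;> fin_cases i <;> fin_cases j <;> simp <;> grind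

theorem zero_of_anti_kx {D : Matrix II II F} (h2 : (2 : F) ≠ 0) (hc : ∀ x : I5 → F, D * kx x = -(kx x * D)) :
    D = 0 := by
  have q0 := hc (Pi.single (.inl ()) 1)
  have q1 := hc (Pi.single (.inr (.inl 0)) 1)
  have q2 := hc (Pi.single (.inr (.inr 0)) 1)
  have q3 := hc (Pi.single (.inr (.inl 1)) 1)
  have q4 := hc (Pi.single (.inr (.inr 1)) 1)
  have hz : ∀ {t : F}, t = -t → t = 0 := fun {t} h =>
    (mul_eq_zero.1 (show (2 : F) * t = 0 by linear_combination h)).resolve_left h2
  have E := fun i j => And.intro (congrFun₂ q0 i j) (And.intro (congrFun₂ q1 i j)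
    (And.intro (congrFun₂ q2 i j) (And.intro (congrFun₂ q3 i j) (congrFun₂ q4 i j))))
  simp [kx, Matrix.mul_apply, Fintype.sum_sum_type, Fin.sum_univ_two, Fin.forall_fin_two] at E
  ext i j
  rcases i with i | i <;> rcases j with j | j <;> fin_cases i <;> fin_cases j <;> simp <;> grind

theorem trace_theta {M : Matrix II II F} (h2 : (2 : F) ≠ 0) (hM : adjS M = -M) {c : F} (hsq : M * M = c • 1) :
    ∑ i : I5, kc (M * kx (Pi.single i 1) * M) i = c := by
  have hJ : Mᵀ * Matrix.J (Fin 2) F = -(Matrix.J (Fin 2) F * M) := by rw [← J_mul_adjS, hM, mul_neg]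
  have e := fun i j => congrFun₂ hJ i j
  have a1 := e (.inl 0) (.inr 0)
  have a2 := e (.inl 1) (.inr 0)
  have a3 := e (.inl 0) (.inr 1)
  have a4 := e (.inl 1) (.inr 1)
  have b2 := e (.inl 0) (.inl 1)
  have c2 := e (.inr 0) (.inr 1)
  simp [Matrix.J, Matrix.mul_apply, Fintype.sum_sum_type, Fin.sum_univ_two] at a1 a2 a3 a4 b2 c2
  have d0 := congrFun₂ hsq (.inl 0) (.inl 0)
  have d1 := congrFun₂ hsq (.inl 1) (.inl 1)
  simp [Matrix.mul_apply, Fintype.sum_sum_type, Fin.sum_univ_two] at d0 d1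
  simp [Fintype.sum_sum_type, Fin.sum_univ_two, kc, kx, Matrix.mul_apply]
  grind

theorem isW_theta {M : Matrix II II F} (hM : adjS M = -M) {c : F} (hsq : M * M = c • 1) (x : I5 → F) :
    IsW (M * kx x * M) := by
  have hJ : Mᵀ * Matrix.J (Fin 2) F = -(Matrix.J (Fin 2) F * M) := by rw [← J_mul_adjS, hM, mul_neg]
  refine ⟨?_, ?_⟩
  · rw [transpose_mul, transpose_mul, mul_assoc, mul_assoc, hJ, mul_neg, ← mul_assoc (kx x)ᵀ, (isW_kx x).1, mul_neg,
      ← mul_assoc, ← mul_assoc, hJ]
    simp only [neg_mul, neg_neg, mul_assoc]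
  · rw [trace_mul_cycle, hsq, smul_mul_assoc, one_mul, trace_smul, (isW_kx x).2, smul_zero]

variable [Fintype F]

/-- The stabiliser of a skew element up to sign. -/
theorem isMaximalIn_skew (h2 : (2 : F) ≠ 0) (h5 : 5 ≤ Fintype.card F) {M : Matrix II II F} (hM : adjS M = -M)
    {c : F} (hc : c ≠ 0) (hsq : M * M = c • 1) {S : Subgroup (GL II F)}
    (hS : ∀ g ∈ Cfsg.spGL 2 F, g ∈ S ↔ cj g M = M ∨ cj g M = -M) :
    Cfsg.Geo.IsMaximalIn (Cfsg.spGL 2 F) (S ⊓ Cfsg.spGL 2 F) := by
  classical
  have hQ := qOdd_nondeg (F := F) h2 2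
  have hcc : c⁻¹ * c = 1 := inv_mul_cancel₀ hc
  let θ : (I5 → F) →ₗ[F] (I5 → F) :=
    { toFun := fun x => c⁻¹ • kc (M * kx x * M)
      map_add' := fun x y => by rw [kx_add, mul_add, add_mul, kc_add, smul_add]
      map_smul' := fun r x => by
        rw [kx_smul, mul_smul_comm, smul_mul_assoc, kc_smul, smul_comm, RingHom.id_apply] }
  have kθ : ∀ x, kx (θ x) = c⁻¹ • (M * kx x * M) := fun x => by
    show kx (c⁻¹ • kc (M * kx x * M)) = _
    rw [kx_smul, kx_kc h2 (isW_theta hM hsq x)]
  have mm : ∀ X : Matrix II II F, M * (M * X) = c • X := fun X => by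
    rw [← mul_assoc, hsq, smul_mul_assoc, one_mul]
  have hθθ : ∀ x, θ (θ x) = x := fun x => kx_injective (by
    rw [kθ, kθ, mul_smul_comm, smul_mul_assoc, smul_smul,
      show M * (M * kx x * M) * M = (c * c) • kx x by
        rw [mul_assoc M (kx x) M, mm, smul_mul_assoc, mul_assoc, hsq, mul_smul_comm, mul_one, smul_smul],
      smul_smul, show c⁻¹ * c⁻¹ * (c * c) = 1 by rw [mul_mul_mul_comm, hcc, one_mul], one_smul])
  have hθQ : ∀ x, qOdd 2 F (θ x) = qOdd 2 F x := fun x => by
    have h := kx_mul_self (θ x)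
    have e : c⁻¹ • (M * kx x * M) * (c⁻¹ • (M * kx x * M)) = qOdd 2 F x • 1 := by
      rw [smul_mul_assoc, mul_smul_comm, smul_smul,
        show M * kx x * M * (M * kx x * M) = (c * c * qOdd 2 F x) • 1 by
          calc M * kx x * M * (M * kx x * M) = M * kx x * (M * (M * (kx x * M))) := by simp only [mul_assoc]
            _ = M * kx x * (c • (kx x * M)) := by rw [mm]
            _ = c • (M * (kx x * kx x) * M) := by rw [mul_smul_comm]; simp only [mul_assoc]
            _ = _ := by rw [kx_mul_self, mul_smul_comm, mul_one, smul_mul_assoc, hsq, smul_smul, smul_smul]; congr 1; ring,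
        smul_smul]
      congr 1
      field_simp
    rw [kθ, e] at h
    simpa using (congrFun₂ h (.inl 0) (.inl 0)).symm
  have hθp : ∀ x y, polar (qOdd 2 F) (θ x) (θ y) = polar (qOdd 2 F) x y := fun x y => by
    simp only [polar, ← map_add, hθQ]
  -- eigenspaces
  let W : Submodule F (I5 → F) := LinearMap.ker (θ + LinearMap.id)
  let U : Submodule F (I5 → F) := LinearMap.ker (θ - LinearMap.id)
  have hWm : ∀ x, x ∈ W ↔ θ x = -x := fun x => by
    simp [W, add_eq_zero_iff_eq_neg]
  have hUm : ∀ x, x ∈ U ↔ θ x = x := fun x => by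
    simp [U, sub_eq_zero]
  have hinv : (2 : F)⁻¹ * 2 = 1 := inv_mul_cancel₀ h2
  have split : ∀ x, (2 : F)⁻¹ • (x + θ x) ∈ U ∧ (2 : F)⁻¹ • (x - θ x) ∈ W ∧
      (2 : F)⁻¹ • (x - θ x) + (2 : F)⁻¹ • (x + θ x) = x := fun x => by
    refine ⟨(hUm _).2 ?_, (hWm _).2 ?_, ?_⟩
    · rw [map_smul, map_add, hθθ, add_comm]
    · rw [map_smul, map_sub, hθθ, ← smul_neg, neg_sub]
    · match_scalars <;> field_simp <;> ring
  have hperp : OrthMax.perp (qOdd 2 F) W = U := by
    ext x
    rw [OrthMax.mem_perp]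
    constructor
    · intro hx
      obtain ⟨h1, h3, h4⟩ := split x
      set a := (2 : F)⁻¹ • (x - θ x) with ha
      have h0 : a = 0 := by
        refine hQ.1 a fun y => ?_
        obtain ⟨k1, k3, k4⟩ := split y
        show polar (qOdd 2 F) a y = 0
        have z1 : ∀ b ∈ U, ∀ d ∈ W, polar (qOdd 2 F) d b = 0 := fun b hb d hd => by
          have := hθp d b
          rw [(hUm b).1 hb, (hWm d).1 hd, QuadraticMap.polar_neg_left] at this
          exact (mul_eq_zero.1 (show (2 : F) * polar (qOdd 2 F) d b = 0 by linear_combination -this)).resolve_left h2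
        have z2 := hx _ k3
        rw [← h4, polar_add_right', z1 _ h1 _ k3, add_zero] at z2
        rw [← k4, polar_add_right', z1 _ k1 _ h3, add_zero, QuadraticMap.polar_comm, z2]
      rw [← h4, h0, zero_add]
      exact h1
    · intro hx d hd
      have := hθp d x
      rw [(hUm x).1 hx, (hWm d).1 hd, QuadraticMap.polar_neg_left] at this
      exact (mul_eq_zero.1 (show (2 : F) * polar (qOdd 2 F) d x = 0 by linear_combination -this)).resolve_left h2
  have hWn : OrthMax.Nondeg (qOdd 2 F) W := fun x hx h => hQ.1 x fun y => by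
    obtain ⟨k1, k3, k4⟩ := split y
    show polar (qOdd 2 F) x y = 0
    rw [← k4, polar_add_right', h _ k3, zero_add]
    exact (hperp.ge k1) x hx
  -- the dimensions
  have hU3 : Module.finrank F U = 3 := by
    have htr : LinearMap.trace F _ θ = 1 := by
      rw [LinearMap.trace_eq_matrix_trace F (Pi.basisFun F I5), Matrix.trace]
      simp only [Matrix.diag_apply, LinearMap.toMatrix_apply, Pi.basisFun_apply, Pi.basisFun_repr]
      show ∑ i : I5, c⁻¹ * kc (M * kx (Pi.single i 1) * M) i = 1
      rw [← Finset.mul_sum, trace_theta h2 hM hsq, hcc]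
    let π : (I5 → F) →ₗ[F] (I5 → F) := (2 : F)⁻¹ • (LinearMap.id + θ)
    have hproj : LinearMap.IsProj U π :=
      ⟨fun x => (split x).1, fun x hx => by
        show (2 : F)⁻¹ • (x + θ x) = x
        rw [(hUm x).1 hx, ← two_smul F x, smul_smul, hinv, one_smul]⟩
    have hp := hproj.trace
    rw [map_smul, map_add, LinearMap.trace_id, htr, Module.finrank_pi, smul_eq_mul] at hp
    have ha : (Module.finrank F U : F) = 3 := by
      rw [← hp]; simp; field_simp; norm_num
    have hle : Module.finrank F U ≤ 5 := by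
      have := Submodule.finrank_le U
      simpa using this
    have n3 : ∀ k : ℕ, (k : F) = 3 → k = 4 ∨ k = 2 ∨ k = 1 → False := fun k hk h => by
      rcases h with rfl | rfl | rfl <;> norm_num at hk
      · exact one_ne_zero (show (1 : F) = 0 by linear_combination hk)
      · exact one_ne_zero (show (1 : F) = 0 by linear_combination -hk)
      · exact h2 (by linear_combination -hk)
    rcases (by omega : Module.finrank F U = 0 ∨ Module.finrank F U = 5 ∨ Module.finrank F U = 3 ∨
      (Module.finrank F U = 4 ∨ Module.finrank F U = 2 ∨ Module.finrank F U = 1)) with h | h | h | h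
    · exfalso
      have hU0 : U = ⊥ := Submodule.finrank_eq_zero.1 h
      have hall : ∀ x, θ x = -x := fun x => by
        obtain ⟨h1, h3, h4⟩ := split x
        rw [hU0, Submodule.mem_bot] at h1
        rw [← h4, h1, add_zero]
        exact (hWm _).1 h3
      have hM0 : M = 0 := zero_of_anti_kx h2 fun x => by
        have e := kθ x
        rw [hall x, kx_neg] at e
        have e2 := congrArg (fun Z => M * Z) e
        simp only [mul_neg, mul_smul_comm] at e2
        rw [mul_assoc M (kx x) M, mm, smul_smul, hcc, one_smul] at e2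
        rw [← e2, neg_neg]
      rw [hM0, mul_zero] at hsq
      have := congrFun₂ hsq (.inl 0) (.inl 0)
      simp at this
      exact hc this.symm
    · exfalso
      rw [h] at ha
      exact h2 (by push_cast at ha; linear_combination ha)
    · exact h
    · exact (n3 _ ha h).elim
  have hW2 : Module.finrank F W = 2 := by
    have h := OrthMax.finrank_perp hQ W
    rw [hperp, hU3] at h
    have := Submodule.finrank_le W
    simp at h this
    omega
  -- the two stabilisers
  have hW' : ∀ x, x ∈ W ↔ M * kx x = -(kx x * M) := fun x => by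
    rw [hWm]
    constructor
    · intro h
      have e2 := congrArg (fun Z => M * Z) (kθ x)
      rw [h, kx_neg] at e2
      simp only [mul_neg, mul_smul_comm] at e2
      rw [mul_assoc M (kx x) M, mm, smul_smul, hcc, one_smul] at e2
      rw [← e2, neg_neg]
    · intro h
      refine kx_injective ?_
      rw [kθ, h, kx_neg, neg_mul, mul_assoc, hsq, mul_smul_comm, mul_one, smul_neg, smul_smul, hcc, one_smul]
  have cjm : ∀ (g : GL II F) (X Y : Matrix II II F), cj g (X * Y) = cj g X * cj g Y := fun g X Y => by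
    simp only [cj, mul_assoc]
    rw [← mul_assoc ((g⁻¹ : GL II F) : Matrix II II F) (g : Matrix II II F), Units.inv_mul, one_mul]
  have cjn : ∀ (g : GL II F) (X : Matrix II II F), cj g (-X) = -cj g X := fun g X => by simp [cj]
  refine isMaximalIn_of_kap h2 hQ (P := OrthMax.oStab (qOdd 2 F) W) (fun g => ?_) (fun hle => ?_) fun K hK hKE => ?_
  · rw [hS g g.2]
    constructor
    · intro hg
      refine OrthMax.mem_oStab_of_maps fun x hx => (hW' _).2 ?_
      have e := congrArg (cj (g : GL II F)) ((hW' x).1 hx)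
      rw [cjn, cjm, cjm, ← kx_kap h2 g] at e
      rcases hg with h | h <;> rw [h] at e
      · exact e
      · rw [neg_mul, mul_neg, neg_neg] at e
        rw [← e, neg_neg]
    · intro hg
      set M' := cj (g : GL II F) M with hM'
      have hUU : ∀ x ∈ U, M * kx x = kx x * M := fun x hx => by
        have e2 := congrArg (fun Z => M * Z) (kθ x)
        rw [(hUm x).1 hx] at e2
        simp only [mul_smul_comm] at e2
        rwa [mul_assoc M (kx x) M, mm, smul_smul, hcc, one_smul] at e2
      set κ := kap h2 g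
      have hW1 : ∀ x ∈ W, M' * kx x = -(kx x * M') := fun x hx => by
        obtain ⟨y, rfl⟩ := (κ : (I5 → F) ≃ₗ[F] (I5 → F)).surjective x
        rw [kx_kap h2 g, hM', ← cjm, ← cjm, ← cjn, (hW' y).1 ((hg y).2 hx)]
      have hU1 : ∀ x ∈ U, M' * kx x = kx x * M' := fun x hx => by
        obtain ⟨y, rfl⟩ := (κ : (I5 → F) ≃ₗ[F] (I5 → F)).surjective x
        have hy : y ∈ U := by
          have h' := OrthMax.oStab_perp_le hQ hg
          rw [hperp] at h'
          exact (h' y).2 hx
        rw [kx_kap h2 g, hM', ← cjm, ← cjm, hUU y hy]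
      have hcomm : ∀ x, M' * M * kx x = kx x * (M' * M) := fun x => by
        obtain ⟨h1, h3, h4⟩ := split x
        rw [← h4, kx_add, mul_add, add_mul]
        congr 1
        · rw [mul_assoc, (hW' _).1 h3, mul_neg, ← mul_assoc, hW1 _ h3, neg_mul, neg_neg, mul_assoc]
        · rw [mul_assoc, hUU _ h1, ← mul_assoc, hU1 _ h1, mul_assoc]
      have hsc := scalar_of_commute_kx h2 hcomm
      set d := (M' * M) (.inl 0) (.inl 0)
      have hM'' : M' = (d * c⁻¹) • M := by
        have e := congrArg (fun Z => Z * M) hsc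
        simp only [smul_mul_assoc, one_mul] at e
        rw [mul_assoc, hsq, mul_smul_comm, mul_one] at e
        rw [mul_comm, mul_smul, ← e, smul_smul, hcc, one_smul]
      have hM'sq : M' * M' = c • 1 := by
        rw [hM', ← cjm, hsq]
        simp [cj]
      rw [hM'', smul_mul_assoc, mul_smul_comm, hsq, smul_smul, smul_smul] at hM'sq
      have hd : d * c⁻¹ * (d * c⁻¹) = 1 := by
        have := congrFun₂ hM'sq (.inl 0) (.inl 0)
        simp at this
        refine mul_right_cancel₀ hc ?_
        linear_combination this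
      rcases mul_self_eq_one_iff.1 hd with h | h <;> rw [h] at hM''
      · left; rwa [one_smul] at hM''
      · right; rwa [neg_one_smul] at hM''
  · refine OrthMax.stab_nondeg_ne hQ (by simp) hWn (fun e => by rw [e, finrank_bot] at hW2; omega)
      (by rw [hperp, hU3]) (le_antisymm inf_le_right fun x hx => ⟨hle hx, hx⟩)
  · exact Plane.le_of_stab_plane_lt hQ (by simp) hWn h2 (by rwa [Nat.card_eq_fintype_card]) hW2
      (by rw [hperp, hU3]) hK hKE

/-- The stabiliser of a pair of complementary totally singular planes. -/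
theorem isMaximalIn_pair (h2 : (2 : F) ≠ 0) (h5 : 5 ≤ Fintype.card F) {D : Fin 2 → Submodule F (II → F)}
    (hD : IsMDecomposition 2 D) (hts : ∀ i, IsTotallySingularFor (Cfsg.sympForm 2 F) (D i)) :
    Cfsg.Geo.IsMaximalIn (Cfsg.spGL 2 F) (decompositionStabilizer D ⊓ Cfsg.spGL 2 F) := by
  classical
  have hf := (CfsgLib.Geo.Roots.isSymplecticForm_sympForm (m := 2) (F := F)).bilinear
  have hcompl : IsCompl (D 0) (D 1) := by
    refine ⟨hD.indep.pairwiseDisjoint Fin.zero_ne_one, codisjoint_iff.2 ?_⟩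
    rw [← hD.iSup_eq_top]
    refine le_antisymm (sup_le (le_iSup D 0) (le_iSup D 1)) (iSup_le fun i => ?_)
    fin_cases i
    · exact le_sup_left
    · exact le_sup_right
  set P0 := (D 0).linearProjOfIsCompl (D 1) hcompl
  let T : (II → F) →ₗ[F] (II → F) := (2 : F) • ((D 0).subtype.comp P0) - LinearMap.id
  set M : Matrix II II F := LinearMap.toMatrix' T
  have hMv : ∀ v, M *ᵥ v = T v := fun v => by rw [← Matrix.toLin'_apply, Matrix.toLin'_toMatrix']
  have hT0 : ∀ v ∈ D 0, T v = v := fun v hv => by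
    show (2 : F) • (P0 v : II → F) - v = v
    rw [show (P0 v : II → F) = v from congrArg Subtype.val (Submodule.linearProjOfIsCompl_apply_left hcompl ⟨v, hv⟩)]
    rw [two_smul, add_sub_cancel_right]
  have hT1 : ∀ v ∈ D 1, T v = -v := fun v hv => by
    show (2 : F) • (P0 v : II → F) - v = -v
    rw [show P0 v = 0 from Submodule.linearProjOfIsCompl_apply_right hcompl ⟨v, hv⟩]
    simp
  have hdec : ∀ v, ∃ a ∈ D 0, ∃ b ∈ D 1, a + b = v := fun v => by
    obtain ⟨a, b, ha, hb, h⟩ := Submodule.codisjoint_iff_exists_add_eq.1 hcompl.codisjoint v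
    exact ⟨a, ha, b, hb, h⟩
  have hTe : ∀ a ∈ D 0, ∀ b ∈ D 1, T (a + b) = a - b := fun a ha b hb => by
    rw [map_add, hT0 a ha, hT1 b hb, sub_eq_add_neg]
  have hadj : adjS M = -M := by
    refine CfsgLib.Geo.Asch.adjS_unique fun u v => ?_
    obtain ⟨a, ha, b, hb, rfl⟩ := hdec u
    obtain ⟨a', ha', b', hb', rfl⟩ := hdec v
    rw [Matrix.neg_mulVec, hMv, hMv, hTe a ha b hb, hTe a' ha' b' hb', neg_sub, sub_eq_add_neg, sub_eq_add_neg,
      ← neg_one_smul F b, ← neg_one_smul F a']
    simp only [hf.add_left, hf.add_right, hf.smul_left, hf.smul_right, hts 0 a ha a' ha', hts 1 b hb b' hb']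
    ring
  have hsq : M * M = (1 : F) • 1 := by
    rw [one_smul]
    refine Matrix.toLin'.injective (LinearMap.ext fun v => ?_)
    rw [Matrix.toLin'_mul, LinearMap.comp_apply, Matrix.toLin'_apply, Matrix.toLin'_apply, Matrix.toLin'_one,
      LinearMap.id_apply, hMv, hMv]
    obtain ⟨a, ha, b, hb, rfl⟩ := hdec v
    rw [hTe a ha b hb, sub_eq_add_neg, hTe a ha _ (Submodule.neg_mem _ hb), sub_neg_eq_add]
  have eig : ∀ v, (M *ᵥ v = v → v ∈ D 0) ∧ (M *ᵥ v = -v → v ∈ D 1) := fun v => by
    obtain ⟨a, ha, b, hb, rfl⟩ := hdec v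
    rw [hMv, hTe a ha b hb]
    constructor <;> intro h
    · have : (2 : F) • b = 0 := by linear_combination (norm := module) -h
      rw [(smul_eq_zero.1 this).resolve_left h2, add_zero]; exact ha
    · have : (2 : F) • a = 0 := by linear_combination (norm := module) h
      rw [(smul_eq_zero.1 this).resolve_left h2, zero_add]; exact hb
  refine isMaximalIn_skew h2 h5 hadj one_ne_zero hsq fun g hg => ?_
  have hgv : ∀ v, cj g M *ᵥ ((g : Matrix II II F) *ᵥ v) = (g : Matrix II II F) *ᵥ (M *ᵥ v) := fun v => by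
    simp [cj, Matrix.mulVec_mulVec, mul_assoc]
  constructor
  · rintro ⟨σ, hσ⟩
    have him : ∀ i, ∀ v ∈ D i, (g : Matrix II II F) *ᵥ v ∈ D (σ i) := fun i v hv =>
      hσ i ▸ ⟨v, hv, rfl⟩
    have key : ∀ s : F, (∀ a ∈ D 0, M *ᵥ ((g : Matrix II II F) *ᵥ a) = s • (g : Matrix II II F) *ᵥ a) →
        (∀ b ∈ D 1, M *ᵥ ((g : Matrix II II F) *ᵥ b) = -(s • (g : Matrix II II F) *ᵥ b)) → s • cj g M = M := by
      intro s h0 h1
      refine Matrix.toLin'.injective (LinearMap.ext fun w => ?_)
      rw [Matrix.toLin'_apply, Matrix.toLin'_apply, Matrix.smul_mulVec]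
      conv_lhs => rw [← CfsgLib.Geo.Asch.inv_mulVec_cancel g w, hgv]
      conv_rhs => rw [← CfsgLib.Geo.Asch.inv_mulVec_cancel g w]
      obtain ⟨a, ha, b, hb, hv⟩ := hdec (((g⁻¹ : GL II F) : Matrix II II F) *ᵥ w)
      rw [← hv, Matrix.mulVec_add, Matrix.mulVec_add, Matrix.mulVec_add, hMv, hMv, hT0 a ha, hT1 b hb, Matrix.mulVec_add,
        Matrix.mulVec_neg, smul_add, smul_neg, h0 a ha, h1 b hb]
    by_cases h : σ 0 = 0
    · left
      have h' : σ 1 = 1 := by
        by_contra hne
        have : σ 1 = 0 := by omega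
        exact absurd (σ.injective (h.trans this.symm)) Fin.zero_ne_one
      have := key 1 (fun a ha => by rw [one_smul, hMv, hT0 _ (h ▸ him 0 a ha)])
        (fun b hb => by rw [one_smul, hMv, hT1 _ (h' ▸ him 1 b hb)])
      rwa [one_smul] at this
    · right
      have h0' : σ 0 = 1 := by omega
      have h1' : σ 1 = 0 := by
        by_contra hne
        have : σ 1 = 1 := by omega
        exact absurd (σ.injective (h0'.trans this.symm)) Fin.zero_ne_one
      have := key (-1) (fun a ha => by rw [neg_one_smul, hMv, hT1 _ (h0' ▸ him 0 a ha)])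
        (fun b hb => by rw [neg_one_smul, neg_neg, hMv, hT0 _ (h1' ▸ him 1 b hb)])
      rw [neg_one_smul] at this
      exact neg_eq_iff_eq_neg.1 this
  · intro h
    have maps : ∀ (σ : Equiv.Perm (Fin 2)), (∀ i, ∀ v ∈ D i, (g : Matrix II II F) *ᵥ v ∈ D (σ i)) →
        g ∈ decompositionStabilizer D := fun σ hm => by
      refine ⟨σ, fun i => Submodule.eq_of_le_of_finrank_le ?_ ?_⟩
      · rintro _ ⟨v, hv, rfl⟩; exact hm i v hv
      · rw [hD.finrank_eq, ← LinearEquiv.finrank_eq (Submodule.equivMapOfInjective _ ?_ (D i)), hD.finrank_eq]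
        intro x y e
        simp only [Matrix.toLin'_apply] at e
        rw [← CfsgLib.Geo.Asch.inv_mulVec_cancel g⁻¹ x, ← CfsgLib.Geo.Asch.inv_mulVec_cancel g⁻¹ y, inv_inv, e]
    rcases h with h | h
    · refine maps 1 fun i v hv => ?_
      have e := hgv v
      rw [h] at e
      fin_cases i
      · exact (eig _).1 (by rw [e, hMv v, hT0 v hv])
      · exact (eig _).2 (by rw [e, hMv v, hT1 v hv, Matrix.mulVec_neg])
    · refine maps (Equiv.swap 0 1) fun i v hv => ?_
      have e := hgv v
      rw [h, Matrix.neg_mulVec, neg_eq_iff_eq_neg] at e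
      fin_cases i
      · exact (eig _).2 (by rw [e, hMv v, hT0 v hv])
      · exact (eig _).1 (by rw [e, hMv v, hT1 v hv, Matrix.mulVec_neg, neg_neg])

/-- The normaliser of a field over which the form comes from a hermitian one. -/
theorem isMaximalIn_overfield (h2 : (2 : F) ≠ 0) (h5 : 5 ≤ Fintype.card F)
    {K : Subalgebra F (Matrix II II F)} (hK : IsFieldSubalgebra 2 K)
    (hadj : IsAdjointClosedFor (Cfsg.sympForm 2 F) K) (hns : ¬ IsSelfAdjointFor (Cfsg.sympForm 2 F) K) :
    Cfsg.Geo.IsMaximalIn (Cfsg.spGL 2 F) (subalgebraNormalizer K ⊓ Cfsg.spGL 2 F) := by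
  classical
  have hcl : ∀ k ∈ K, adjS k ∈ K := fun k hk => by
    obtain ⟨k', hk', h⟩ := hadj k hk
    rwa [CfsgLib.Geo.Asch.adjS_unique h]
  obtain ⟨k, hk, hne⟩ : ∃ k ∈ K, adjS k ≠ k := by
    by_contra! h
    exact hns fun k hk u v => by rw [CfsgLib.Geo.Asch.sympForm_adjS, h k hk]
  set M := k - adjS k with hM
  have hMK : M ∈ K := sub_mem hk (hcl k hk)
  have hM0 : M ≠ 0 := sub_ne_zero.2 hne.symm
  have hneg : ∀ X : Matrix II II F, adjS (-X) = -adjS X := fun X => by
    rw [← neg_one_smul F X, CfsgLib.Geo.Asch.adjS_smul, neg_one_smul]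
  have hadjM : adjS M = -M := by
    rw [hM, sub_eq_add_neg, CfsgLib.Geo.Asch.adjS_add, hneg, CfsgLib.Geo.Asch.adjS_adjS]; abel
  have hli : ∀ a b : F, a • (1 : Matrix II II F) + b • M = 0 → a = 0 ∧ b = 0 := fun a b h => by
    have h' := congrArg adjS h
    rw [CfsgLib.Geo.Asch.adjS_add, CfsgLib.Geo.Asch.adjS_smul, CfsgLib.Geo.Asch.adjS_smul, CfsgLib.Geo.Asch.adjS_one,
      hadjM, show adjS (0 : Matrix II II F) = 0 by simp [adjS], smul_neg] at h'
    have e : ((2 : F) * b) • M = 0 := by linear_combination (norm := module) h - h'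
    have hb : b = 0 := by
      have := (smul_eq_zero.1 e).resolve_right hM0
      exact (mul_eq_zero.1 this).resolve_left h2
    rw [hb, zero_smul, add_zero] at h
    exact ⟨(smul_eq_zero.1 h).resolve_right one_ne_zero, hb⟩
  have hgen : ∀ x ∈ K, ∃ a b : F, x = a • 1 + b • M := by
    have : LinearIndependent F ![(⟨1, one_mem K⟩ : K), ⟨M, hMK⟩] :=
      LinearIndependent.pair_iff.2 fun a b h => hli a b (congrArg Subtype.val h)
    have hsp := this.span_eq_top_of_card_eq_finrank (by rw [hK.finrank_eq]; simp)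
    intro x hx
    have : (⟨x, hx⟩ : K) ∈ Submodule.span F (Set.range ![(⟨1, one_mem K⟩ : K), ⟨M, hMK⟩]) := hsp ▸ Submodule.mem_top
    rw [show Set.range ![(⟨1, one_mem K⟩ : K), ⟨M, hMK⟩] = {⟨1, one_mem K⟩, ⟨M, hMK⟩} by
      ext; simp [Fin.exists_fin_two, eq_comm, or_comm]] at this
    obtain ⟨a, b, e⟩ := Submodule.mem_span_pair.1 this
    exact ⟨a, b, (congrArg Subtype.val e).symm⟩
  obtain ⟨c, b, hcb⟩ := hgen _ (mul_mem hMK hMK)
  have hb : b = 0 := by
    have h' := congrArg adjS hcb
    rw [CfsgLib.Geo.Asch.adjS_mul, hadjM, neg_mul_neg, hcb, CfsgLib.Geo.Asch.adjS_add, CfsgLib.Geo.Asch.adjS_smul,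
      CfsgLib.Geo.Asch.adjS_smul, CfsgLib.Geo.Asch.adjS_one, hadjM, smul_neg] at h'
    exact (mul_eq_zero.1 (hli 0 (2 * b) (by linear_combination (norm := module) h')).2).resolve_left h2
  rw [hb, zero_smul, add_zero] at hcb
  have hc : c ≠ 0 := fun e => by
    rw [e, zero_smul] at hcb
    obtain ⟨y, -, hy⟩ := hK.inv M hMK hM0
    exact hM0 (by rw [← mul_one M, ← hy, ← mul_assoc, hcb, zero_mul])
  refine isMaximalIn_skew h2 h5 hadjM hc hcb fun g _ => ?_
  constructor
  · intro hg
    have hM' : cj g M ∈ K := (hg M).1 hMK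
    have hsq' : cj g M * cj g M = c • 1 := by
      simp only [cj]
      rw [show (g : Matrix II II F) * M * ((g⁻¹ : GL II F) : Matrix II II F) *
        ((g : Matrix II II F) * M * ((g⁻¹ : GL II F) : Matrix II II F)) =
        (g : Matrix II II F) * (M * M) * ((g⁻¹ : GL II F) : Matrix II II F) by
          simp only [mul_assoc]
          rw [← mul_assoc ((g⁻¹ : GL II F) : Matrix II II F) (g : Matrix II II F), Units.inv_mul, one_mul], hcb]
      simp
    by_cases h : cj g M = M
    · exact Or.inl h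
    right
    obtain ⟨y, hyK, hy⟩ := hK.inv _ (sub_mem hM' hMK) (sub_ne_zero.2 h)
    have e : (cj g M - M) * (cj g M + M) = 0 := by
      rw [sub_mul, mul_add, mul_add, hsq', hcb, hK.comm _ hMK _ hM']; abel
    have h0 : cj g M + M = 0 := by
      have e2 := congrArg (fun Z => y * Z) e
      simp only [mul_zero] at e2
      rwa [← mul_assoc, ← hK.comm _ (sub_mem hM' hMK) y hyK, hy, one_mul] at e2
    exact eq_neg_of_add_eq_zero_left h0
  · intro h
    have key : ∀ g : GL II F, (cj g M = M ∨ cj g M = -M) → ∀ x ∈ K, cj g x ∈ K := fun g h x hx => by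
      obtain ⟨a, b, rfl⟩ := hgen x hx
      have : cj g (a • 1 + b • M) = a • 1 + b • cj g M := by
        simp [cj, mul_add, add_mul]
      rw [this]
      rcases h with h | h <;> rw [h]
      · exact add_mem (Subalgebra.smul_mem _ (one_mem K) a) (Subalgebra.smul_mem _ hMK b)
      · exact add_mem (Subalgebra.smul_mem _ (one_mem K) a) (Subalgebra.smul_mem _ (neg_mem hMK) b)
    intro x
    refine ⟨key g h x, fun hx => ?_⟩
    have hinv : cj g⁻¹ M = M ∨ cj g⁻¹ M = -M := by
      rcases h with h | h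
      · left
        conv_lhs => rw [← h]
        rw [cj_inv_cj]
      · right
        have e := cj_inv_cj g M
        rw [h, show cj g⁻¹ (-M) = -cj g⁻¹ M by simp [cj]] at e
        exact neg_eq_iff_eq_neg.1 e
    have := key g⁻¹ hinv _ hx
    rwa [← show cj g x = (g : Matrix II II F) * x * ((g⁻¹ : GL II F) : Matrix II II F) from rfl, cj_inv_cj] at this

end CfsgLib.Geo.KleinSp
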