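import Cfsg.Agent.Lib.Geo.KleinSp.Basic
import Cfsg.Agent.Lib.Geo.Frame.Five
import Cfsg.Agent.Lib.Geo.PauliApply

/-!
# Normalisers of extraspecial two-groups in `Sp₄(p)` are maximal

In the five-dimensional representation they become stabilisers of orthonormal frames.
-/

set_option autoImplicit false
set_option maxHeartbeats 1000000

namespace CfsgLib.Geo.KleinSp

open Matrix Cfsg.Geo
open CfsgLib.Classical CfsgLib.Classical.Quad
open CfsgLib.Geo.Frame (fQ ee flipO permO IsMon)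
open QuadraticMap (polar polarBilin)
open scoped commutatorElement

local notation "II" => (Fin 2 ⊕ Fin 2)
local notation "I5" => (Unit ⊕ (Fin 2 ⊕ Fin 2))

variable {F : Type*} [Field F] {R : Subgroup (GL II F)}

/-- Five pairwise anticommuting involutions from a frame. -/
def gam (f : Pauli.Frame R) : Fin 5 → GL II F :=
  ![f.a₂, f.b₂, f.a₂ * f.b₂ * f.a₁, f.a₂ * f.b₂ * f.b₁, f.a₂ * f.b₂ * (f.a₁ * f.b₁)]

theorem gam_mem (f : Pauli.Frame R) (i : Fin 5) : gam f i ∈ R := by
  fin_cases i <;> simp [gam, f.a₂R, f.b₂R, f.a₁R, f.b₁R, mul_mem]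

theorem cx_mul (f : Pauli.Frame R) {x y : GL II F} (hx₁ : x * f.a₂ = f.a₂ * x) (hx₂ : x * f.b₂ = f.b₂ * x) :
    f.a₂ * f.b₂ * x * (f.a₂ * f.b₂ * y) = -(x * y) := by
  calc f.a₂ * f.b₂ * x * (f.a₂ * f.b₂ * y) = f.a₂ * f.b₂ * (x * f.a₂) * f.b₂ * y := by group
    _ = f.a₂ * f.b₂ * f.a₂ * (x * f.b₂) * y := by rw [hx₁]; group
    _ = f.a₂ * (f.b₂ * f.a₂) * f.b₂ * (x * y) := by rw [hx₂]; group
    _ = f.a₂ * (-(f.a₂ * f.b₂)) * f.b₂ * (x * y) := by rw [f.ab₂, neg_neg]
    _ = -((f.a₂ * f.a₂) * (f.b₂ * f.b₂) * (x * y)) := by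
      simp only [mul_neg, neg_mul]; group
    _ = _ := by rw [f.a₂s, f.b₂s, one_mul, one_mul]

theorem gam_comm (f : Pauli.Frame R) (i : Fin 5) :
    gam f i * gam f i = 1 ∧ ∀ j, i ≠ j → gam f i * gam f j = -(gam f j * gam f i) := by
  have hba : f.b₁ * f.a₁ = -(f.a₁ * f.b₁) := by rw [f.ab₁, neg_neg]
  have pa : (f.a₁ * f.b₁) * f.a₂ = f.a₂ * (f.a₁ * f.b₁) := by rw [mul_assoc, f.ba, ← mul_assoc, f.aa, mul_assoc]
  have pb : (f.a₁ * f.b₁) * f.b₂ = f.b₂ * (f.a₁ * f.b₁) := by rw [mul_assoc, f.bb, ← mul_assoc, f.ab, mul_assoc]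
  have hc : f.b₂ * f.a₂ = -(f.a₂ * f.b₂) := by rw [f.ab₂, neg_neg]
  have la : ∀ x, x * f.a₂ = f.a₂ * x →
      f.a₂ * (f.a₂ * f.b₂ * x) = -(f.a₂ * f.b₂ * x * f.a₂) := fun x hx => by
    rw [mul_assoc (f.a₂ * f.b₂) x, hx, ← mul_assoc (f.a₂ * f.b₂), mul_assoc f.a₂ f.b₂ f.a₂, hc, mul_neg, neg_mul,
      neg_neg, ← mul_assoc, ← mul_assoc]
  have lb : ∀ x, x * f.b₂ = f.b₂ * x →
      f.b₂ * (f.a₂ * f.b₂ * x) = -(f.a₂ * f.b₂ * x * f.b₂) := fun x hx => by
    rw [mul_assoc (f.a₂ * f.b₂) x, hx, ← mul_assoc f.b₂, ← mul_assoc f.b₂, hc, neg_mul, neg_mul]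
    group
  have ha1 : f.a₁ * (f.a₁ * f.b₁) = -(f.a₁ * f.b₁ * f.a₁) := by
    rw [mul_assoc, hba, mul_neg, neg_neg]
  have hb1 : f.b₁ * (f.a₁ * f.b₁) = -(f.a₁ * f.b₁ * f.b₁) := by
    rw [← mul_assoc, hba, neg_mul]
  have hp : f.a₁ * f.b₁ * (f.a₁ * f.b₁) = -1 := by
    rw [mul_assoc, hb1, mul_neg, mul_assoc f.a₁ f.b₁, f.b₁s, mul_neg_one, mul_neg, neg_neg, f.a₁s]
  have key : ∀ x y, x * f.a₂ = f.a₂ * x → x * f.b₂ = f.b₂ * x → y * f.a₂ = f.a₂ * y → y * f.b₂ = f.b₂ * y →
      x * y = -(y * x) →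
      f.a₂ * f.b₂ * x * (f.a₂ * f.b₂ * y) = -(f.a₂ * f.b₂ * y * (f.a₂ * f.b₂ * x)) := by
    intro x y h1 h2 h3 h4 h5
    rw [cx_mul f h1 h2, cx_mul f h3 h4, h5]
  have key' : ∀ x y : GL II F, y = -x → x = -y := fun x y e => by rw [e, neg_neg]
  refine ⟨?_, fun j hij => ?_⟩
  · fin_cases i <;> simp only [gam] <;> dsimp
    · exact f.a₂s
    · exact f.b₂s
    · rw [cx_mul f f.aa f.ab, f.a₁s, neg_neg]
    · rw [cx_mul f f.ba f.bb, f.b₁s, neg_neg]
    · rw [cx_mul f pa pb, hp, neg_neg]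
  · fin_cases i <;> fin_cases j <;> (try exact absurd rfl hij) <;> simp only [gam] <;> dsimp
    · exact f.ab₂
    · exact la _ f.aa
    · exact la _ f.ba
    · exact la _ pa
    · exact hc
    · exact lb _ f.ab
    · exact lb _ f.bb
    · exact lb _ pb
    · exact key' _ _ (la _ f.aa)
    · exact key' _ _ (lb _ f.ab)
    · exact key _ _ f.aa f.ab f.ba f.bb f.ab₁
    · exact key _ _ f.aa f.ab pa pb ha1
    · exact key' _ _ (la _ f.ba)
    · exact key' _ _ (lb _ f.bb)
    · exact key _ _ f.ba f.bb f.aa f.ab hba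
    · exact key _ _ f.ba f.bb pa pb hb1
    · exact key' _ _ (la _ pa)
    · exact key' _ _ (lb _ pb)
    · exact key' _ _ (key _ _ f.aa f.ab pa pb ha1)
    · exact key' _ _ (key _ _ f.ba f.bb pa pb hb1)

variable [Fintype F]

/-- The normaliser of a group with a frame and commutation signs. -/
theorem isMaximalIn_of_frame (hp : (Fintype.card F).Prime) (hodd : Odd (Fintype.card F)) (hRS : R ≤ Cfsg.spGL 2 F)
    (f : Pauli.Frame R) (hsign : ∀ a ∈ R, ∀ b ∈ R, a * b = b * a ∨ a * b = -(b * a)) :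
    Cfsg.Geo.IsMaximalIn (Cfsg.spGL 2 F) (subgroupNormalizer R ⊓ Cfsg.spGL 2 F) := by
  classical
  have h2 : (2 : F) ≠ 0 := two_ne_zero_of_odd rfl hodd
  haveI : Fact (Fintype.card F).Prime := ⟨hp⟩
  haveI : CharP F (Fintype.card F) := charP_of_card_eq_prime rfl
  have hnegm : ∀ {x : GL II F}, x ∈ R → -x ∈ R := fun {x} hx => by
    rw [← neg_one_mul, ← f.a₁s]
    exact mul_mem (mul_mem f.a₁R f.a₁R) hx
  -- the five vectors
  set γ := gam f with hγ
  have γR := gam_mem f
  have γS : ∀ i, γ i ∈ Cfsg.spGL 2 F := fun i => hRS (γR i)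
  have γsq : ∀ i, γ i * γ i = 1 := fun i => (gam_comm f i).1
  have γac : ∀ i j, i ≠ j → γ i * γ j = -(γ j * γ i) := fun i => (gam_comm f i).2
  have γtr : ∀ i, (γ i : Matrix II II F).trace = 0 := fun i => by
    obtain ⟨j, hj⟩ := exists_ne i
    refine Pauli.trace_zero_of_anticommute h2 (γ j) ?_
    have := congrArg (fun u : GL II F => -(u : Matrix II II F)) (γac i j hj.symm)
    simpa using this.symm
  let v : Fin 5 → I5 → F := fun i => kc (γ i : Matrix II II F)
  have kxv : ∀ i, kx (v i) = (γ i : Matrix II II F) := fun i => by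
    refine kx_kc h2 ⟨?_, γtr i⟩
    have e := mem_sp (γS i)
    calc (γ i : Matrix II II F)ᵀ * Matrix.J (Fin 2) F
        = (γ i : Matrix II II F)ᵀ * Matrix.J (Fin 2) F * ((γ i : Matrix II II F) * (γ i : Matrix II II F)) := by
          rw [← Units.val_mul, γsq, Units.val_one, mul_one]
      _ = _ := by rw [← mul_assoc, e]
  have hQv : ∀ i, qOdd 2 F (v i) = 1 := fun i => by
    have e := kx_mul_self (v i)
    rw [kxv, ← Units.val_mul, γsq, Units.val_one] at e
    simpa using (congrFun₂ e (.inl 0) (.inl 0)).symm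
  have hQp : ∀ i j, i ≠ j → polar (qOdd 2 F) (v i) (v j) = 0 := fun i j hij => by
    have e := kx_anti (v i) (v j)
    rw [kxv, kxv, ← Units.val_mul, ← Units.val_mul, γac i j hij, Units.val_neg, neg_add_cancel] at e
    simpa using (congrFun₂ e (.inl 0) (.inl 0)).symm
  let L : (Fin 5 → F) →ₗ[F] (I5 → F) := ∑ i, (LinearMap.proj i).smulRight (v i)
  have hL : ∀ x, L x = ∑ i, x i • v i := fun x => by simp [L]
  have hLp : ∀ x j, polar (qOdd 2 F) (L x) (v j) = 2 * x j := fun x j => by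
    rw [hL, show polar (qOdd 2 F) (∑ i, x i • v i) (v j) = polarBilin (qOdd 2 F) (∑ i, x i • v i) (v j) from rfl]
    simp only [map_sum, map_smul, LinearMap.sum_apply, LinearMap.smul_apply, QuadraticMap.polarBilin_apply_apply,
      smul_eq_mul]
    rw [Finset.sum_eq_single j (fun i _ hi => by rw [hQp i j hi, mul_zero]) (by simp), polar_self', hQv]
    ring
  have hLi : Function.Injective L := fun x y e => funext fun j => mul_left_cancel₀ h2 (by rw [← hLp, e, hLp])
  let e : (Fin 5 → F) ≃ₗ[F] (I5 → F) := LinearEquiv.ofBijective L ⟨hLi,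
    (LinearMap.injective_iff_surjective_of_finrank_eq_finrank (by simp)).1 hLi⟩
  have heL : ∀ x, e x = L x := fun x => rfl
  have hee : ∀ i, e (ee i) = v i := fun i => by
    rw [heL, hL, Finset.sum_eq_single i (fun j _ hj => by rw [Frame.ee_ne hj, zero_smul]) (by simp), Frame.ee_self,
      one_smul]
  have heQ : ∀ x, qOdd 2 F (e x) = fQ F (Fin 5) x := fun x => by
    refine mul_left_cancel₀ h2 ?_
    rw [← polar_self', Frame.fQ_apply]
    conv_lhs => arg 3; rw [heL, hL]
    rw [show polar (qOdd 2 F) (e x) (∑ i, x i • v i) = polarBilin (qOdd 2 F) (e x) (∑ i, x i • v i) from rfl]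
    simp only [map_sum, map_smul, QuadraticMap.polarBilin_apply_apply, smul_eq_mul, heL, hLp, dotProduct,
      Finset.mul_sum]
    exact Finset.sum_congr rfl fun i _ => by ring
  let Φ : OQ (fQ F (Fin 5)) ≃* OQ (qOdd 2 F) := isoCongr (f := fun u _ => fQ F (Fin 5) u)
    (f' := fun u _ => qOdd 2 F u) e fun u _ u' _ => by rw [heQ, heQ]
  have hΦ : ∀ g x, (Φ g : (I5 → F) ≃ₗ[F] (I5 → F)) (e x) = e (g • x) := fun g x => by
    show e ((g : (Fin 5 → F) ≃ₗ[F] (Fin 5 → F)) (e.symm (e x))) = _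
    rw [LinearEquiv.symm_apply_apply, Frame.smul_def]
  have hQ := qOdd_nondeg (F := F) h2 2
  have hf := Frame.fQ_nondegenerate (F := F) (ι := Fin 5) h2
  have hn5 : 5 ≤ Module.finrank F (I5 → F) := by simp
  have hn5' : 5 ≤ Module.finrank F (Fin 5 → F) := by simp
  have hE : ∀ g, Φ g ∈ eichGroup hQ ↔ g ∈ eichGroup hf := by
    intro g
    have hmap : (commutator (OQ (fQ F (Fin 5)))).map Φ.toMonoidHom = commutator (OQ (qOdd 2 F)) := by
      rw [commutator_def, commutator_def, Subgroup.map_commutator,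
        Subgroup.map_top_of_surjective _ Φ.surjective]
    rw [eichGroup_eq_commutator hQ hn5, eichGroup_eq_commutator hf hn5', ← hmap,
      Subgroup.mem_map_equiv, MulEquiv.symm_apply_apply]
  let M : Subgroup (OQ (fQ F (Fin 5))) :=
    { carrier := {g | IsMon g}
      one_mem' := ⟨1, Frame.monBy_one⟩
      mul_mem' := fun ha hb => ha.mul hb
      inv_mem' := fun ha => ha.inv }
  set P : Subgroup (OQ (qOdd 2 F)) := M.comap Φ.symm.toMonoidHom with hP
  -- images of the five involutions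
  have key : ∀ (g : Cfsg.spGL 2 F) i (x : Fin 5 → F), Φ.symm (kap h2 g) • (ee i : Fin 5 → F) = x ↔
      cj g (γ i : Matrix II II F) = kx (e x) := by
    intro g i x
    obtain ⟨k, hk⟩ := Φ.surjective (kap h2 g)
    have h' := hΦ k (ee i)
    rw [hee, hk] at h'
    rw [← hk, MulEquiv.symm_apply_apply, ← kxv, ← kx_kap h2 g, h']
    exact ⟨fun hx => by rw [hx], fun hx => e.injective (kx_injective hx)⟩
  have kxee : ∀ j, kx (e (ee j)) = (γ j : Matrix II II F) ∧ kx (e (-ee j)) = -(γ j : Matrix II II F) := fun j => by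
    rw [map_neg, kx_neg, hee, kxv]
    exact ⟨rfl, rfl⟩
  -- what commutes with the frame is scalar
  let G : Subgroup (GL II F) := Subgroup.closure {f.a₁, f.b₁, f.a₂, f.b₂}
  have hG : ∀ x ∈ ({f.a₁, f.b₁, f.a₂, f.b₂} : Set (GL II F)), x ∈ G := fun x hx => Subgroup.subset_closure hx
  have hGR : G ≤ R := (Subgroup.closure_le _).2 (by
    rintro x (rfl | rfl | rfl | rfl)
    exacts [f.a₁R, f.b₁R, f.a₂R, f.b₂R])
  have step : ∀ x y : GL II F, x ∈ R → y ∈ R → y ∈ G → x * y = -(y * x) → ∀ r ∈ R,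
      ∃ w ∈ G, r * w ∈ R ∧ (r * w) * x = x * (r * w) ∧ ∀ z, y * z = z * y → r * z = z * r → (r * w) * z = z * (r * w) := by
    intro x y hx hy hyG hxy r hr
    rcases hsign r hr x hx with e | e
    · exact ⟨1, one_mem _, by rwa [mul_one], by rwa [mul_one], fun z _ hz => by rwa [mul_one]⟩
    · refine ⟨y, hyG, mul_mem hr hy, ?_, fun z h1 h2 => by rw [mul_assoc, h1, ← mul_assoc, h2, mul_assoc]⟩
      rw [mul_assoc, show y * x = -(x * y) by rw [hxy, neg_neg], mul_neg, ← mul_assoc, e, neg_mul, neg_neg, mul_assoc]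
  have hcov : R ≤ G := by
    intro r hr
    obtain ⟨w₁, hw₁, hr₁, c₁, -⟩ := step f.a₁ f.b₁ f.a₁R f.b₁R (hG _ (by simp)) f.ab₁ r hr
    obtain ⟨w₂, hw₂, hr₂, c₂, k₂⟩ := step f.b₁ f.a₁ f.b₁R f.a₁R (hG _ (by simp)) (by rw [f.ab₁, neg_neg]) _ hr₁
    obtain ⟨w₃, hw₃, hr₃, c₃, k₃⟩ := step f.a₂ f.b₂ f.a₂R f.b₂R (hG _ (by simp)) f.ab₂ _ hr₂
    obtain ⟨w₄, hw₄, hr₄, c₄, k₄⟩ := step f.b₂ f.a₂ f.b₂R f.a₂R (hG _ (by simp)) (by rw [f.ab₂, neg_neg]) _ hr₃
    set s := r * w₁ * w₂ * w₃ * w₄ with hs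
    have d₁ : s * f.a₁ = f.a₁ * s := k₄ _ f.aa.symm (k₃ _ f.ab.symm (k₂ _ rfl c₁))
    have d₂ : s * f.b₁ = f.b₁ * s := k₄ _ f.ba.symm (k₃ _ f.bb.symm c₂)
    have d₃ : s * f.a₂ = f.a₂ * s := k₄ _ rfl c₃
    have hall : ∀ i, Commute s (γ i) := by
      intro i
      fin_cases i <;> simp only [hγ, gam] <;> dsimp
      exacts [d₃, c₄, (Commute.mul_right d₃ c₄).mul_right d₁, (Commute.mul_right d₃ c₄).mul_right d₂,
        (Commute.mul_right d₃ c₄).mul_right (Commute.mul_right d₁ d₂)]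
    have hk : kap h2 ⟨s, hRS hr₄⟩ = kap h2 1 := by
      rw [map_one, ← map_one Φ]
      refine Φ.symm.injective ?_
      rw [MulEquiv.symm_apply_apply]
      refine Frame.eq_of_smul_ee (w := (1 : Fin 5 → F)) fun i => ?_
      rw [one_smul, key, (kxee i).1, cj, ← Units.val_mul, (hall i).eq, Units.val_mul, mul_assoc, Units.mul_inv,
        mul_one]
    have hn : (-1 : GL II F) ∈ G := f.a₁s ▸ mul_mem (hG _ (by simp)) (hG _ (by simp))
    have hsG : s ∈ G := by
      rcases eq_or_eq_neg_of_kap h2 hk with e | e <;> simp only [OneMemClass.coe_one] at e <;> rw [show s = _ from e]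
      · exact one_mem _
      · exact hn
    have : r = s * (w₁ * w₂ * w₃ * w₄)⁻¹ := by rw [hs]; group
    rw [this]
    exact mul_mem hsG (inv_mem (mul_mem (mul_mem (mul_mem hw₁ hw₂) hw₃) hw₄))
  have hS : ∀ g : Cfsg.spGL 2 F, (g : GL II F) ∈ subgroupNormalizer R ↔ kap h2 g ∈ P := by
    intro g
    constructor
    · intro hg
      refine Frame.isMon_of_axis h2 fun i => ?_
      set x : Fin 5 → F := Φ.symm.toMonoidHom (kap h2 g) • ee i with hx
      have hxe : cj g (γ i : Matrix II II F) = kx (e x) := (key g i x).1 hx.symm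
      set r := (g : GL II F) * γ i * (g : GL II F)⁻¹ with hr'
      have hr : r ∈ R := (Subgroup.mem_normalizer_iff.1 hg _).1 (γR i)
      have hrv : (r : Matrix II II F) = kx (e x) := by rw [← hxe, cj, hr', Units.val_mul, Units.val_mul]
      by_cases hc : ∀ j, r * γ j = -(γ j * r)
      · exfalso
        have h0 : x = 0 := funext fun j => by
          have e1 := kx_anti (e x) (v j)
          rw [heL, hLp, ← heL, ← hrv, kxv, ← Units.val_mul, ← Units.val_mul, hc j, Units.val_neg, neg_add_cancel] at e1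
          have e2 := (congrFun₂ e1 (.inl 0) (.inl 0)).symm
          simpa [h2] using e2
        have e0 : kx (e x) = 0 := by rw [h0, map_zero, ← zero_smul F (0 : I5 → F), kx_smul, zero_smul]
        rw [e0] at hrv
        have e1 := Units.mul_inv r
        rw [hrv, zero_mul] at e1
        exact zero_ne_one e1
      push Not at hc
      obtain ⟨j, hj⟩ := hc
      refine ⟨j, fun l hl => ?_⟩
      have hcomm := (hsign r hr _ (γR j)).resolve_right hj
      have e1 := kx_anti (e x) (v j)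
      rw [heL, hLp, ← heL, ← hrv, kxv, ← Units.val_mul, ← Units.val_mul, ← hcomm, ← two_smul F, Units.val_mul] at e1
      have e2 : (r : Matrix II II F) = x j • (γ j : Matrix II II F) := by
        have e3 := congrArg (fun Z => Z * (γ j : Matrix II II F)) e1
        simp only [smul_mul_assoc, one_mul] at e3
        rw [mul_assoc, ← Units.val_mul, γsq, Units.val_one, mul_one, mul_smul] at e3
        exact smul_right_injective _ h2 e3
      rw [hrv, ← (kxee j).1, ← kx_smul, ← map_smul] at e2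
      rw [e.injective (kx_injective e2)]
      simp [hl]
    · intro hg
      have conj : ∀ g : Cfsg.spGL 2 F, kap h2 g ∈ P → ∀ r ∈ R, (g : GL II F) * r * (g : GL II F)⁻¹ ∈ R := by
        intro g hg r hr
        have hγc : ∀ i, γ i ∈ R.comap (MulAut.conj (g : GL II F)).toMonoidHom := fun i => by
          obtain ⟨π, hπ⟩ := hg
          rcases hπ i with e1 | e1 <;> have e2 := (key g i _).1 e1
          · rw [(kxee _).1] at e2
            rw [Subgroup.mem_comap, MulEquiv.coe_toMonoidHom, MulAut.conj_apply, show _ * γ i * _ = γ (π i) from Units.ext e2]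
            exact γR _
          · rw [(kxee _).2, ← Units.val_neg] at e2
            rw [Subgroup.mem_comap, MulEquiv.coe_toMonoidHom, MulAut.conj_apply, show _ * γ i * _ = -γ (π i) from Units.ext e2]
            exact hnegm (γR _)
        have hle : G ≤ R.comap (MulAut.conj (g : GL II F)).toMonoidHom := by
          refine (Subgroup.closure_le _).2 ?_
          have A := hγc 0
          have B := hγc 1
          have C := mul_mem (inv_mem (mul_mem A B)) (hγc 2)
          have D := mul_mem (inv_mem (mul_mem A B)) (hγc 3)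
          simp only [hγ, gam] at A B C D
          dsimp at A B C D
          rw [inv_mul_cancel_left] at C D
          rintro x (rfl | rfl | rfl | rfl)
          exacts [C, D, A, B]
        exact hle (hcov hr)
      refine Subgroup.mem_normalizer_iff.2 fun r => ⟨conj g hg r, fun hr => ?_⟩
      have h' := conj g⁻¹ (by rw [map_inv]; exact inv_mem hg) _ hr
      rwa [InvMemClass.coe_inv, inv_inv, ← mul_assoc, ← mul_assoc, inv_mul_cancel, one_mul, mul_assoc, inv_mul_cancel,
        mul_one] at h'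
  -- monomial elements of the derived group
  have hperm : ∀ π : Equiv.Perm (Fin 5), Equiv.Perm.sign π = 1 → permO F π ∈ eichGroup hf := by
    intro π hπ
    rw [eichGroup_eq_commutator hf hn5']
    have h1 : π ∈ commutator (Equiv.Perm (Fin 5)) := by
      have hA : π ∈ alternatingGroup (Fin 5) := Equiv.Perm.mem_alternatingGroup.2 hπ
      rw [← commutator_alternatingGroup_eq_self (α := Fin 5) (by simp)] at hA
      exact Subgroup.commutator_mono le_top le_top hA
    have := Subgroup.mem_map_of_mem (permO F) h1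
    rw [commutator_def, Subgroup.map_commutator] at this
    exact Subgroup.commutator_mono le_top le_top this
  have hpair : ∀ i j : Fin 5, i ≠ j →
      flipO (1 : Fin 5 → F) {i} * flipO (1 : Fin 5 → F) {j} ∈ eichGroup hf := by
    intro i j hij
    rw [eichGroup_eq_commutator hf hn5']
    have e1 : flipO (1 : Fin 5 → F) {i} * flipO (1 : Fin 5 → F) {j} =
        @Bracket.bracket (OQ (fQ F (Fin 5))) (OQ (fQ F (Fin 5))) _ (flipO (1 : Fin 5 → F) {i}) (permO F (Equiv.swap i j)) := by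
      have h1 := (Frame.monBy_perm (F := F) (Equiv.swap i j)).conj_flip {i}
      rw [Finset.image_singleton, Equiv.swap_apply_left] at h1
      rw [commutatorElement_def, Frame.flipO_inv, ← h1]
      group
    rw [e1]
    exact Subgroup.commutator_mem_commutator (Subgroup.mem_top _) (Subgroup.mem_top _)
  -- the derived group moves the frame
  obtain ⟨g₁, hg₁, hg₁m⟩ : ∃ g ∈ eichGroup hf, ¬ IsMon g := by
    obtain ⟨r, s, hrs⟩ := exists_sum_two_squares h2 (one_ne_zero (α := F)) one_ne_zero (-1)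
    let v : Fin 5 → F := ee 0 + ee 1 + r • ee 2 + s • ee 3
    have hv : fQ F (Fin 5) v = fQ F (Fin 5) (ee 0) := by
      rw [Frame.fQ_ee, Frame.fQ_apply]
      simp [v, add_dotProduct, dotProduct_add]
      linear_combination hrs
    obtain ⟨g, hg, hga⟩ := exists_move_vector hf hn5' (a := (ee 0 : Fin 5 → F)) (b := v)
      (by rw [Frame.fQ_ee]; exact one_ne_zero) hv
    refine ⟨g, hg, fun ⟨π, hπ⟩ => ?_⟩
    obtain ⟨z, hz⟩ := hπ.axis 0
    rw [show g • (ee 0 : Fin 5 → F) = v from hga] at hz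
    have e1 : (0 : Fin 5) = z := by by_contra h; simpa [v] using hz 0 h
    have e2 : (1 : Fin 5) = z := by by_contra h; simpa [v] using hz 1 h
    exact absurd (e1.trans e2.symm) (by decide)
  refine isMaximalIn_of_kap h2 hQ hS (fun hle => hg₁m ?_) fun K hK hKE => ?_
  · have := hle ((hE g₁).2 hg₁)
    rwa [hP, Subgroup.mem_comap, MulEquiv.coe_toMonoidHom, MulEquiv.symm_apply_apply] at this
  set K' : Subgroup (OQ (fQ F (Fin 5))) := K.comap Φ.toMonoidHom with hK'
  have hmem : ∀ g, IsMon g → g ∈ eichGroup hf → g ∈ K' := fun g hg hg' =>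
    hK.le ⟨show IsMon (Φ.symm (Φ g)) by rwa [MulEquiv.symm_apply_apply], (hE g).2 hg'⟩
  have hfr : Frame.IsFrame K' :=
    ⟨fun π hπ => hmem _ (Frame.isMon_perm π) (hperm π hπ),
      fun i j hij => hmem _ ((Frame.isMon_flip _).mul (Frame.isMon_flip _)) (hpair i j hij)⟩
  intro x hx
  obtain ⟨y, rfl⟩ := Φ.surjective x
  by_contra hxK
  have hmon := Frame.mon_five hfr hp h2 (by simp) fun hle => hxK (hle ((hE y).1 hx))
  refine hK.not_ge fun z hz => ⟨?_, hKE hz⟩
  obtain ⟨w, rfl⟩ := Φ.surjective z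
  show IsMon (Φ.symm (Φ w))
  rw [MulEquiv.symm_apply_apply]
  exact hmon w hz

/-- The normaliser of an extraspecial group of minus type. -/
theorem isMaximalIn_sympType (hp : (Fintype.card F).Prime) (hodd : Odd (Fintype.card F))
    (hRs : IsSymplecticTypeGroup 2 R) (hRi : ActsAbsolutelyIrreducibly (matrixSet R)) (hRS : R ≤ Cfsg.spGL 2 F)
    (hR : Nat.card R = 32) (hRZ : Nat.card (Subgroup.center R) = 2) (hRm : IsOfMinusType 2 R) :
    Cfsg.Geo.IsMaximalIn (Cfsg.spGL 2 F) (subgroupNormalizer R ⊓ Cfsg.spGL 2 F) := by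
  classical
  have h2 : (2 : F) ≠ 0 := two_ne_zero_of_odd rfl hodd
  haveI : Fact (Fintype.card F).Prime := ⟨hp⟩
  haveI : CharP F (Fintype.card F) := charP_of_card_eq_prime rfl
  have h : Pauli.IsPauli R := Pauli.isPauli_of (p := Fintype.card F)
    (fun e => by rw [e] at hodd; exact absurd hodd (by decide)) (by simp) hRs hRi (z := 2) (by rw [hR]) hRZ
  obtain ⟨f⟩ := h.exists_frame_minus hRm (h.scalar_minus hRZ)
  exact isMaximalIn_of_frame hp hodd hRS f h.sign

end CfsgLib.Geo.KleinSp
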